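import Cfsg.Agent.Lib.RankTwoModel.MultiCase.Main
import Cfsg.Agent.Lib.RankTwoModel.Unique
import Cfsg.Agent.Lib.RankTwoModel.CMax.Basic
import Cfsg.Agent.Lib.RankTwoModel.FixedAction

/-!
The configuration of the case `C < M`: `F(M)` is a `p`-group and `M` is the only maximal subgroup over `C`; a four
group through `z` with its three-cycle.

Blueprint: `blueprint/RankTwo_L5.md`, section E.
-/

set_option autoImplicit false
set_option linter.unusedSectionVars false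
set_option linter.style.haveILetI false

namespace CfsgLib.RankTwoModel

open Cfsg CfsgLib.BG CfsgLib.GW CfsgLib.BenderMax

universe u

variable {G : Type u} [Group G] [Finite G]

/-- The case `C < M`. -/
structure LCtx (d : Frame G) (M : Subgroup G) (p : ℕ) : Prop where
  hyp : Hyp G
  spec : d.Spec
  lt : 3 < d.q
  prime : p.Prime
  iso : Iso d.z
  bad : Bad d.z M
  pgroup : IsPGroup p (FF M)
  uniq : ∀ N : Subgroup G, N ≠ ⊤ → d.C ≤ N → N ≤ M

namespace LCtx

variable {d : Frame G} {M : Subgroup G} {p : ℕ} (K : LCtx d M p)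
include K

theorem C_le : d.C ≤ M := K.bad.cent

theorem FF_eq : FF M = OO p M := FF_eq_OO K.prime K.pgroup

theorem exists_moved : ∃ f ∈ OO p M, d.z * f ≠ f * d.z := by
  obtain ⟨r, hr, f, hf, hne⟩ := K.bad.exists_moved
  exact ⟨f, K.FF_eq ▸ BG.OO_le_FF hr M hf, hne⟩

theorem F_ne : OO p M ≠ ⊥ := fun e => by
  obtain ⟨f, hf, hne⟩ := K.exists_moved
  rw [e, Subgroup.mem_bot] at hf
  exact hne (by rw [hf, mul_one, one_mul])

theorem ne_two : p ≠ 2 := K.bad.ne_two K.F_ne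

theorem odd_of_pgroup {X : Subgroup G} (hX : IsPGroup p X) : Odd (Nat.card X) := by
  haveI := Fact.mk K.prime
  obtain ⟨k, hk⟩ := hX.exists_card_eq
  rw [hk]
  exact (K.prime.odd_of_ne_two K.ne_two).pow

theorem z_mem : d.z ∈ M := K.bad.mem

theorem self_cent {x : G} (hx : x ∈ M) (hc : ∀ f ∈ OO p M, x * f = f * x) : x ∈ OO p M :=
  K.FF_eq ▸ BG.self_cent K.bad.layer hx (fun y hy => hc y (K.FF_eq ▸ hy))

/-- A non-trivial odd subgroup normalised by `C` has its normaliser in `M`. -/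
theorem normalizer_le {X : Subgroup G} (hX : Odd (Nat.card X)) (hne : X ≠ ⊥)
    (hC : d.C ≤ Subgroup.normalizer (X : Set G)) : Subgroup.normalizer (X : Set G) ≤ M :=
  K.uniq _ (K.hyp.normalizer_ne_top hne hX) hC

/-- The fixed points of `z` on `F` lie in `O_p(C)`. -/
theorem fixed_le_W {f : G} (hf : f ∈ OO p M) (hfC : f ∈ d.C) : f ∈ OO p d.C := by
  refine isPGroup_normal_le_OO (R := OO p M ⊓ d.C) ((OO_isPGroup p M).to_le inf_le_left) inf_le_right
    (fun c hc x hx => ⟨conj_OO (K.C_le hc) hx.1, d.C.mul_mem (d.C.mul_mem hc hx.2) (d.C.inv_mem hc)⟩) ⟨hf, hfC⟩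

end LCtx

/-- A four group `{1, z, u, z u}` and its three-cycle `z → u → z u → z`. -/
structure Tri (d : Frame G) (u g : G) : Prop where
  ord : orderOf u = 2
  mem : u ∈ d.C
  ne : u ≠ d.z
  z_to : g * d.z * g⁻¹ = u
  u_to : g * u * g⁻¹ = d.z * u
  zu_to : g * (d.z * u) * g⁻¹ = d.z

namespace Tri

variable {d : Frame G} {u g : G} (T : Tri d u g)
include T

theorem comm : u * d.z = d.z * u := Frame.Spec.z_central T.mem

theorem zu_mem : d.z * u ∈ d.C := mul_mem Frame.Spec.z_mem_C T.mem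

theorem zord : orderOf d.z = 2 := by
  rw [← orderOf_cj g d.z, T.z_to, T.ord]

theorem zz : d.z * d.z = 1 := invol_mul_self T.zord

theorem uu : u * u = 1 := invol_mul_self T.ord

theorem zu_ord : orderOf (d.z * u) = 2 := orderOf_mul_invol T.zord T.ord T.comm.symm T.ne

theorem zu_ne : d.z * u ≠ d.z := fun e => ne_one_of_invol T.ord (mul_eq_left.1 e)

theorem z_zu : d.z * (d.z * u) = u := by rw [← mul_assoc, T.zz, one_mul]

theorem symm : Tri d (d.z * u) (g * g) := by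
  refine ⟨T.zu_ord, T.zu_mem, T.zu_ne, ?_, ?_, ?_⟩
  · rw [show g * g * d.z * (g * g)⁻¹ = g * (g * d.z * g⁻¹) * g⁻¹ by group, T.z_to, T.u_to]
  · rw [show g * g * (d.z * u) * (g * g)⁻¹ = g * (g * (d.z * u) * g⁻¹) * g⁻¹ by group, T.zu_to, T.z_to, T.z_zu]
  · rw [T.z_zu, show g * g * u * (g * g)⁻¹ = g * (g * u * g⁻¹) * g⁻¹ by group, T.u_to, T.zu_to]

theorem cube_mem : g * g * g ∈ d.C := mem_cent.2 (mul_inv_eq_iff_eq_mul.1 (by
  rw [show g * g * g * d.z * (g * g * g)⁻¹ = g * (g * (g * d.z * g⁻¹) * g⁻¹) * g⁻¹ by group, T.z_to, T.u_to,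
    T.zu_to]))

theorem back_u : g⁻¹ * u * g = d.z := by
  calc g⁻¹ * u * g = g⁻¹ * (g * d.z * g⁻¹) * g := by rw [T.z_to]
    _ = d.z := by group

theorem back_z : g⁻¹ * d.z * g = d.z * u := by
  calc g⁻¹ * d.z * g = g⁻¹ * (g * (d.z * u) * g⁻¹) * g := by rw [T.zu_to]
    _ = d.z * u := by group

theorem back_zu : g⁻¹ * (d.z * u) * g = u := by
  calc g⁻¹ * (d.z * u) * g = g⁻¹ * (g * u * g⁻¹) * g := by rw [T.u_to]
    _ = u := by group

/-- `C(u)` is the conjugate of `C`. -/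
theorem cj_C : cj g d.C = Subgroup.centralizer ({u} : Set G) := by
  rw [← T.z_to]
  exact (centralizer_cj g d.z).symm

theorem u_mem_cj : u ∈ cj g d.C := T.cj_C ▸ mem_cent.2 rfl

end Tri

/-- A four group through `z` with its cycle. -/
theorem Hyp.exists_tri (h : Hyp G) {d : Frame G} (hd : d.Spec) :
    ∃ u g, Tri d u g ∧ u ∈ d.U ∧ ∀ x ∈ d.U, x = 1 ∨ x = d.z ∨ x = u ∨ x = d.z * u := by
  obtain ⟨u, huU, hu, hne, hc, hall⟩ := hd.exists_u
  obtain ⟨g, h1, h2, h3⟩ := h.three hd.zord hu hc.symm hne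
  refine ⟨u, g, ⟨hu, Subgroup.mem_centralizer_singleton_iff.mpr hc, hne, h1, h2, h3⟩, huU, fun x hx => ?_⟩
  rw [← hc]
  exact hall x hx

end CfsgLib.RankTwoModel
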