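import Cfsg.Agent.Lib.DicksonFull.Subgroups
import Cfsg.Agent.Lib.DicksonFull.Solvabilizer

/-!
Subgroups of `PSL₂(q)`, `q` odd, over the normaliser of a torus of order `n ≥ 3`.

* `torus_overgroup`: only the whole group, apart from groups of order `2 n (n + 1)` for `n ∈ {3, 5}`, and `n = 4`;
* `no_middle`: such a group of order `2 n (n + 1)` is not normalised by an involutory automorphism centralising the
  torus and fixing no element of odd order outside it.

Blueprint: `blueprint/RankTwo_L5.md`, section F.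
-/

set_option autoImplicit false
set_option linter.unusedSectionVars false
set_option linter.style.haveILetI false

namespace CfsgLib.RankTwoModel.Below

open CfsgLib.DicksonFull
open CfsgLib.PSL2 (mk)

universe u

variable {F : Type u} [Field F] [Fintype F] (p : ℕ) [Fact p.Prime] [CharP F p]

local notation "PSL" => Matrix.ProjectiveSpecialLinearGroup (Fin 2) F
local notation "q" => Fintype.card F

/-- **Overgroups of the normaliser of a torus.** -/
theorem torus_overgroup (hodd : Odd q) {x : PSL} (hx : SS p x) (hxn : orderOf x = Nat.card ((psl p).T x))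
    (hn3 : 3 ≤ orderOf x) (hn : orderOf x = (q + 1) / 2 ∨ orderOf x = (q - 1) / 2) {H : Subgroup PSL}
    (hH : H ≠ ⊤) (hN : Subgroup.normalizer ((psl p).T x : Set PSL) ≤ H) :
    H = Subgroup.normalizer ((psl p).T x : Set PSL) ∨
      orderOf x = 4 ∨ (orderOf x = 3 ∨ orderOf x = 5) ∧ Nat.card H = 2 * orderOf x * (orderOf x + 1) := by
  classical
  have hgcd : Nat.gcd 2 (q - 1) = 2 := Nat.gcd_eq_left (even_iff_two_dvd.mp (by
    obtain ⟨j, hj⟩ := hodd; exact ⟨j, by omega⟩))
  obtain ⟨g, hgT, hgx⟩ := exists_inverter p hx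
  set n := orderOf x with hndef
  set N := Subgroup.normalizer ((psl p).T x : Set PSL) with hNdef
  have hN2 : Nat.card N = 2 * n := by rw [hNdef, card_norm p hx, hxn]
  have hxH : x ∈ H := hN (Subgroup.le_normalizer ((psl p).mem_T x hx))
  have hgH : g ∈ H := hN (mem_norm hx (hgx ▸ inv_mem ((psl p).mem_T x hx)))
  have hx2 : x ^ 2 ≠ 1 := fun e => by
    have := Nat.le_of_dvd (by norm_num) (orderOf_dvd_of_pow_eq_one e)
    omega
  have hxinv : x⁻¹ ≠ x := fun e => hx2 (by rw [pow_two]; nth_rw 1 [← e]; exact inv_mul_cancel x)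
  have hdvd : 2 * n ∣ Nat.card H := hN2 ▸ Subgroup.card_dvd_of_le hN
  have hordH : orderOf (⟨x, hxH⟩ : H) = n := Subgroup.orderOf_mk _ _
  have hpow : ∀ k, (⟨x, hxH⟩ : H) ^ k = 1 → 0 < k → n ≤ k := fun k hk h0 =>
    Nat.le_of_dvd h0 (hordH ▸ orderOf_dvd_of_pow_eq_one hk)
  have hq13 : q ≤ 2 * n + 1 := by rcases hn with h | h <;> obtain ⟨j, hj⟩ := hodd <;> omega
  rcases proper_cases p hH with ⟨k, hk, ⟨hcyc, -⟩ | e⟩ | e | e | e | ⟨u, hu, hub⟩ |
    ⟨Q, m, K, _, _, -, hQ3, hm, hQm, -, hmax, -⟩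
  · -- cyclic
    exfalso
    have h' : g * x = x * g :=
      congrArg Subtype.val ((IsCyclic.commGroup (α := H)).mul_comm ⟨g, hgH⟩ ⟨x, hxH⟩)
    exact hxinv (by rw [← hgx, h', mul_inv_cancel_right])
  · -- dihedral
    obtain ⟨e⟩ := e
    have hc : Nat.card H = 2 * k := by rw [Nat.card_congr e.toEquiv, DihedralGroup.nat_card]
    left
    rw [hc] at hdvd
    have hnk : n ∣ k := Nat.dvd_of_mul_dvd_mul_left (by norm_num) hdvd
    rw [hgcd] at hk
    have hk0 : 0 < k := by
      have := Nat.card_pos (α := H)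
      omega
    have hkn : k = n := by
      obtain ⟨j, hj⟩ := hodd
      have hpos : ∀ m : ℕ, k ∣ m → 0 < m → k ≤ m := fun m h h0 => Nat.le_of_dvd h0 h
      have hnle := Nat.le_of_dvd hk0 hnk
      rcases hn with h | h <;> rcases hk with hk | hk
      · exact le_antisymm (h ▸ hpos _ hk (by omega)) hnle
      · exfalso; have := hpos _ hk (by omega); omega
      · exfalso
        have h4 := Nat.dvd_sub (hnk.trans hk) (dvd_of_eq h)
        rw [show (q + 1) / 2 - (q - 1) / 2 = 1 by omega] at h4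
        have := Nat.dvd_one.mp h4
        omega
      · exact le_antisymm (h ▸ hpos _ hk (by omega)) hnle
    exact (Subgroup.eq_of_le_of_card_ge hN (by rw [hN2, hc, hkn])).symm
  · -- A4
    obtain ⟨e⟩ := e
    exfalso
    rcases a4_orders (e ⟨x, hxH⟩) with h | h
    · have := hpow 2 (e.injective (by rw [map_pow, h, map_one])) (by norm_num)
      omega
    · have h1 := a4_no_inversion (e ⟨x, hxH⟩) (e ⟨g, hgH⟩) h
        (by rw [← map_inv, ← map_mul, ← map_mul, ← map_inv]; congr 1; exact Subtype.ext hgx)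
      exact hx.1 (congrArg Subtype.val (e.injective (by rw [h1, map_one]) : (⟨x, hxH⟩ : H) = 1))
  · -- S4
    obtain ⟨e⟩ := e
    have hc : Nat.card H = 24 := by
      rw [Nat.card_congr e.toEquiv, Nat.card_eq_fintype_card, Fintype.card_perm, Fintype.card_fin]; rfl
    right
    rcases s4_orders (e ⟨x, hxH⟩) with h | h
    · have h3 := hpow 3 (e.injective (by rw [map_pow, h, map_one])) (by norm_num)
      exact Or.inr ⟨Or.inl (by omega), by rw [hc, show n = 3 by omega]⟩
    · have h4 := hpow 4 (e.injective (by rw [map_pow, h, map_one])) (by norm_num)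
      rcases (show n = 3 ∨ n = 4 by omega) with h3 | h3
      · exact Or.inr ⟨Or.inl h3, by rw [hc, h3]⟩
      · exact Or.inl h3
  · -- A5
    obtain ⟨e⟩ := e
    have hc : Nat.card H = 60 := by
      rw [Nat.card_congr e.toEquiv, Nat.card_eq_fintype_card]; rfl
    have hn5 : n ≤ 5 := by
      rcases a5_orders (e ⟨x, hxH⟩) with h | h | h
      · have := hpow 2 (e.injective (by rw [map_pow, h, map_one])) (by norm_num); omega
      · have := hpow 3 (e.injective (by rw [map_pow, h, map_one])) (by norm_num); omega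
      · exact hpow 5 (e.injective (by rw [map_pow, h, map_one])) (by norm_num)
    right
    rcases (show n = 3 ∨ n = 4 ∨ n = 5 by omega) with h3 | h4 | h5
    · exfalso
      have hcard := card_psl (F := F)
      rw [hgcd] at hcard
      have hdv : 60 ∣ Nat.card PSL := hc ▸ Subgroup.card_subgroup_dvd_card H
      have hlt : 60 < Nat.card PSL := lt_of_le_of_ne (Nat.le_of_dvd Nat.card_pos hdv)
        fun e => hH (Subgroup.eq_top_of_le_card H (by omega))
      rcases (show q = 5 ∨ q = 7 by rcases hn with h | h <;> obtain ⟨j, hj⟩ := hodd <;> omega) with h | h <;>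
        rw [h] at hcard <;> omega
    · exact Or.inl h4
    · exact Or.inr ⟨Or.inr h5, by rw [hc, h5]⟩
  · -- Borel
    exfalso
    have hxb := (mem_bor (psl p) hu).mp (hub hxH)
    have hgb := (mem_bor (psl p) hu).mp (hub hgH)
    have hcm := (psl (F := F) p).borel_comm u g x hu hgb hxb
    rw [hgx] at hcm
    have hne : x⁻¹ * x⁻¹ ≠ 1 := fun e => hxinv (by rwa [mul_eq_one_iff_eq_inv, inv_inv] at e)
    exact not_commute_of_SS (psl p) hu
      ((psl p).T_eq x _ hx (mul_mem (inv_mem ((psl p).mem_T x hx)) (inv_mem ((psl p).mem_T x hx))) hne).1 hcm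
  · -- subfield
    right
    have hle := hmax x hxH hx
    rw [show tor (psl p) H x = (psl p).T x from inf_eq_right.mpr (Subgroup.le_normalizer.trans hN), ← hxn] at hle
    have hQ2 : Q ^ 2 ≤ q := hQm ▸ Nat.pow_le_pow_right (by omega) hm
    left
    rcases (show Q = 3 ∨ 4 ≤ Q by omega) with rfl | hQ4
    · rcases (show n = 3 ∨ n = 4 by omega) with h | h
      · exfalso; omega
      · exact h
    · have h4 : Q * 4 ≤ Q ^ 2 := by rw [pow_two]; exact Nat.mul_le_mul_left _ hQ4
      omega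

/-- **No group of order `2 n (n + 1)` over the torus normaliser has the automorphism.** -/
theorem no_middle {Γ : Type*} [Group Γ] [Finite Γ] {Y T : Subgroup Γ} {θ : MulAut Γ} {t : Γ}
    (hθ : ∀ a, θ (θ a) = a) (hθY : ∀ a ∈ Y, θ a ∈ Y) (hθT : ∀ a ∈ T, θ a = a) (hTY : T ≤ Y) (ht : t ∈ T)
    (hT : (Nat.card T).Prime) (hT2 : Nat.card T ≠ 2) (hto : orderOf t = Nat.card T)
    (hNY : Nat.card (Y ⊓ Subgroup.normalizer (T : Set Γ) : Subgroup Γ) = 2 * Nat.card T)
    (hY : Nat.card Y = 2 * Nat.card T * (Nat.card T + 1))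
    (hfix : ∀ a, θ a = a → Odd (orderOf a) → a ∈ T) : False := by
  classical
  haveI := Fact.mk hT
  set n := Nat.card T with hn
  have hnodd : Odd n := hT.odd_of_ne_two hT2
  set N : Subgroup Γ := Y ⊓ Subgroup.normalizer (T : Set Γ) with hNdef
  -- odd order elements of `N` lie in `T`
  have hoddN : ∀ a ∈ N, Odd (orderOf a) → a ∈ T := by
    intro a ha hao
    haveI : (T.subgroupOf N).Normal := ⟨fun b hb c => by
      rw [Subgroup.mem_subgroupOf] at hb ⊢
      exact (Subgroup.mem_normalizer_iff.mp c.2.2 _).mp hb⟩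
    have hTN : T ≤ N := le_inf hTY Subgroup.le_normalizer
    have hidx : (T.subgroupOf N).index = 2 := by
      have h1 := (T.subgroupOf N).card_mul_index
      rw [Nat.card_congr (Subgroup.subgroupOfEquivOfLe hTN).toEquiv, hNY, mul_comm 2 n] at h1
      exact Nat.eq_of_mul_eq_mul_left hT.pos h1
    obtain ⟨j, hj⟩ := hao
    have h2 : ((⟨a, ha⟩ : N) ^ 2) ^ (j + 1) ∈ T.subgroupOf N := pow_mem (by
      rw [← hidx]; exact Subgroup.pow_index_mem _ _) _
    rw [← pow_mul, Subgroup.mem_subgroupOf, SubmonoidClass.coe_pow,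
      show 2 * (j + 1) = orderOf a + 1 by omega, pow_succ, pow_orderOf_eq_one, one_mul] at h2
    exact h2
  have htodd : Odd (orderOf t) := hto ▸ hnodd
  have hθN : ∀ a ∈ N, θ a ∈ N := fun a ha => ⟨hθY a ha.1, Subgroup.mem_normalizer_fintype fun b hb => by
    have h1 : a * b * a⁻¹ ∈ T := (Subgroup.mem_normalizer_iff.mp ha.2 b).mp hb
    have h2 := hθT _ h1
    rw [map_mul, map_mul, map_inv, hθT b hb] at h2
    exact h2 ▸ h1⟩
  have hfull : ∀ {a : Γ}, a ∈ T → a ≠ 1 → ∀ b ∈ T, ∃ i : ℤ, a ^ i = b := by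
    intro a ha ha1 b hb
    have hz : Subgroup.zpowers (⟨a, ha⟩ : T) = ⊤ := zpowers_eq_top_of_prime_card rfl (by
      intro e; exact ha1 (congrArg Subtype.val e))
    obtain ⟨i, hi⟩ := Subgroup.mem_zpowers_iff.mp (hz ▸ Subgroup.mem_top (⟨b, hb⟩ : T))
    exact ⟨i, congrArg Subtype.val hi⟩
  -- the cosets of `N` in `Y`
  set N' : Subgroup Y := N.subgroupOf Y with hN'
  have hcard : Nat.card (↥Y ⧸ N') = n + 1 := by
    have h1 := N'.card_mul_index
    rw [Nat.card_congr (Subgroup.subgroupOfEquivOfLe (show N ≤ Y from inf_le_left)).toEquiv, hNY, hY] at h1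
    exact Nat.eq_of_mul_eq_mul_left (by have := hT.pos; omega) h1
  let θY : Y → Y := fun a => ⟨θ a, hθY a a.2⟩
  let θq : ↥Y ⧸ N' → ↥Y ⧸ N' := Quotient.map' θY fun a b h => by
    rw [QuotientGroup.leftRel_apply] at h ⊢
    rw [Subgroup.mem_subgroupOf] at h ⊢
    have := hθN _ h
    simpa [θY, map_mul, map_inv] using this
  have hθq : ∀ a : Y, θq (QuotientGroup.mk a) = QuotientGroup.mk (θY a) := fun _ => rfl
  let tY : Y := ⟨t, hTY ht⟩
  -- left multiplication by `t` fixes only the trivial coset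
  have hsemi : ∀ (a : Y) (i : ℕ), (QuotientGroup.mk (tY ^ i * a) : ↥Y ⧸ N') = QuotientGroup.mk a →
      a ∉ N' → n ∣ i := by
    intro a i h ha
    by_contra hi
    rw [QuotientGroup.eq, Subgroup.mem_subgroupOf] at h
    have h' : (a : Γ)⁻¹ * (t ^ i)⁻¹ * a ∈ N := by simpa [tY, mul_assoc] using h
    have hodd' : Odd (orderOf ((a : Γ)⁻¹ * (t ^ i)⁻¹ * a)) := by
      have h1 : orderOf ((a : Γ)⁻¹ * (t ^ i)⁻¹ * a) = orderOf (t ^ i)⁻¹ := by
        simpa using orderOf_injective (MulAut.conj (a : Γ)⁻¹).toMonoidHom (MulAut.conj (a : Γ)⁻¹).injective (t ^ i)⁻¹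
      rw [h1, orderOf_inv]
      exact htodd.of_dvd_nat (orderOf_pow_dvd i)
    have h3 : (t ^ i)⁻¹ ≠ 1 := by
      rw [Ne, inv_eq_one]
      exact fun e => hi (hto ▸ orderOf_dvd_of_pow_eq_one e)
    have h4 := hoddN _ h' hodd'
    have h5 : (a : Γ)⁻¹ * (t ^ i)⁻¹ * a ≠ 1 := fun e => h3 (by
      have := congrArg (fun w => (a : Γ) * w * (a : Γ)⁻¹) e
      simpa [mul_assoc] using this)
    refine ha (Subgroup.mem_subgroupOf.mpr ⟨a.2, Subgroup.mem_normalizer_fintype fun b hb => ?_⟩)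
    obtain ⟨k, rfl⟩ := hfull h4 h5 b hb
    rw [← conj_zpow, show (a : Γ) * ((a : Γ)⁻¹ * (t ^ i)⁻¹ * a) * (a : Γ)⁻¹ = (t ^ i)⁻¹ by group]
    exact zpow_mem (inv_mem (pow_mem ht i)) k
  -- an involution on the `n` other cosets fixes one
  haveI : Fintype (↥Y ⧸ N') := Fintype.ofFinite _
  set S := (Finset.univ : Finset (↥Y ⧸ N')).erase (QuotientGroup.mk 1) with hS
  have hScard : S.card = n := by
    rw [hS, Finset.card_erase_of_mem (Finset.mem_univ _), Finset.card_univ, ← Nat.card_eq_fintype_card, hcard,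
      Nat.add_sub_cancel]
  have hθθ : ∀ c, θq (θq c) = c := by
    intro c
    obtain ⟨a, rfl⟩ := QuotientGroup.mk_surjective c
    rw [hθq, hθq]
    exact congrArg _ (Subtype.ext (hθ a))
  have hθ1 : θq (QuotientGroup.mk 1) = QuotientGroup.mk 1 := by
    rw [hθq]; exact congrArg _ (Subtype.ext (map_one θ))
  obtain ⟨c₀, hc₀, hc₀θ⟩ : ∃ c ∈ S, θq c = c := by
    by_contra hno
    push Not at hno
    have h1 : (∏ _c ∈ S, (-1 : ℤ)) = 1 := Finset.prod_involution (fun c _ => θq c) (fun _ _ => by norm_num)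
      (fun c hc _ => hno c hc) (fun c hc => by
        rw [hS, Finset.mem_erase] at hc ⊢
        exact ⟨fun e => hc.1 (by rw [← hθθ c, e, hθ1]), Finset.mem_univ _⟩) (fun c _ => hθθ c)
    rw [Finset.prod_const, hScard, hnodd.neg_one_pow] at h1
    norm_num at h1
  obtain ⟨a₀, rfl⟩ := QuotientGroup.mk_surjective c₀
  have ha₀ : a₀ ∉ N' := fun h => (Finset.mem_erase.mp hc₀).1 (QuotientGroup.eq.mpr (by simpa using inv_mem h))
  -- so it fixes all
  have hall : ∀ a : Y, a ∉ N' → θq (QuotientGroup.mk a) = QuotientGroup.mk a := by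
    intro a ha
    let f : Fin n → ↥Y ⧸ N' := fun i => QuotientGroup.mk (tY ^ (i : ℕ) * a₀)
    have hf : Function.Injective f := by
      intro i j hij
      rcases le_total (i : ℕ) j with hle | hle
      · have h1 := hsemi (tY ^ (i : ℕ) * a₀) ((j : ℕ) - i) (by
          rw [← mul_assoc, ← pow_add, Nat.sub_add_cancel hle]; exact hij.symm) ?_
        · exact Fin.ext (by have := j.2; have := Nat.eq_zero_of_dvd_of_lt h1 (by omega); omega)
        · intro hm
          have : tY ^ (i : ℕ) ∈ N' := Subgroup.mem_subgroupOf.mpr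
            ⟨(tY ^ (i : ℕ)).2, Subgroup.le_normalizer (by simpa [tY] using pow_mem ht (i : ℕ))⟩
          exact ha₀ (by simpa using mul_mem (inv_mem this) hm)
      · have h1 := hsemi (tY ^ (j : ℕ) * a₀) ((i : ℕ) - j) (by
          rw [← mul_assoc, ← pow_add, Nat.sub_add_cancel hle]; exact hij) ?_
        · exact Fin.ext (by have := i.2; have := Nat.eq_zero_of_dvd_of_lt h1 (by omega); omega)
        · intro hm
          have : tY ^ (j : ℕ) ∈ N' := Subgroup.mem_subgroupOf.mpr
            ⟨(tY ^ (j : ℕ)).2, Subgroup.le_normalizer (by simpa [tY] using pow_mem ht (j : ℕ))⟩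
          exact ha₀ (by simpa using mul_mem (inv_mem this) hm)
    have himg : Finset.univ.image f = S := by
      refine Finset.eq_of_subset_of_card_le (fun c hc => ?_) (by
        rw [hScard, Finset.card_image_of_injective _ hf, Finset.card_univ, Fintype.card_fin])
      obtain ⟨i, -, rfl⟩ := Finset.mem_image.mp hc
      refine Finset.mem_erase.mpr ⟨fun e => ?_, Finset.mem_univ _⟩
      have hm : tY ^ (i : ℕ) * a₀ ∈ N' := by
        have := inv_mem (QuotientGroup.eq.mp e)
        simpa using this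
      have : tY ^ (i : ℕ) ∈ N' := Subgroup.mem_subgroupOf.mpr
        ⟨(tY ^ (i : ℕ)).2, Subgroup.le_normalizer (by simpa [tY] using pow_mem ht (i : ℕ))⟩
      exact ha₀ (by simpa using mul_mem (inv_mem this) hm)
    have haS : (QuotientGroup.mk a : ↥Y ⧸ N') ∈ S :=
      Finset.mem_erase.mpr ⟨fun e => ha (by have := inv_mem (QuotientGroup.eq.mp e); simpa using this),
        Finset.mem_univ _⟩
    rw [← himg] at haS
    obtain ⟨i, -, hi⟩ := Finset.mem_image.mp haS
    rw [← hi]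
    show θq (QuotientGroup.mk (tY ^ (i : ℕ) * a₀)) = _
    rw [hθq]
    have h1 := hc₀θ
    rw [hθq, QuotientGroup.eq] at h1
    refine QuotientGroup.eq.mpr ?_
    have e : θY (tY ^ (i : ℕ) * a₀) = tY ^ (i : ℕ) * θY a₀ := Subtype.ext (by
      show θ (t ^ (i : ℕ) * a₀) = t ^ (i : ℕ) * θ a₀
      rw [map_mul, hθT _ (pow_mem ht _)])
    rw [e]
    simpa [mul_assoc] using h1
  -- the other conjugates of `T` are inverted
  have hinv : ∀ a : Y, a ∉ N' → θ ((a : Γ) * t * (a : Γ)⁻¹) = (a : Γ) * t⁻¹ * (a : Γ)⁻¹ := by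
    intro a ha
    have h1 := hall a ha
    rw [hθq, QuotientGroup.eq, Subgroup.mem_subgroupOf] at h1
    set m := (a : Γ)⁻¹ * θ a with hm
    have hmN : m ∈ N := by simpa [θY, hm] using inv_mem h1
    have hmt : m * t * m⁻¹ ∈ T := (Subgroup.mem_normalizer_iff.mp hmN.2 t).mp ht
    set s := m * t * m⁻¹ with hs
    have e1 : θ ((a : Γ) * t * (a : Γ)⁻¹) = (a : Γ) * s * (a : Γ)⁻¹ := by
      rw [map_mul, map_mul, map_inv, hθT t ht, hs, hm]
      group
    have ht1 : t ≠ 1 := fun e => by rw [e, orderOf_one] at hto; exact hT.ne_one hto.symm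
    obtain ⟨i, hi⟩ := hfull ht ht1 s hmt
    -- `θ` acts on `⟨a t a⁻¹⟩` as `x ↦ x ^ i`
    have e2 : θ ((a : Γ) * t * (a : Γ)⁻¹) = ((a : Γ) * t * (a : Γ)⁻¹) ^ i := by rw [e1, ← hi, conj_zpow]
    have e3 := hθ ((a : Γ) * t * (a : Γ)⁻¹)
    rw [e2, map_zpow, e2, ← zpow_mul] at e3
    have hord : orderOf ((a : Γ) * t * (a : Γ)⁻¹) = n := by
      have h4 := orderOf_injective (MulAut.conj (a : Γ)).toMonoidHom (MulAut.conj (a : Γ)).injective t
      rw [hto] at h4
      simpa using h4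
    have h5 : ((n : ℤ)) ∣ i * i - 1 := by
      rw [← hord, orderOf_dvd_iff_zpow_eq_one, zpow_sub, e3, zpow_one, mul_inv_cancel]
    rw [show i * i - 1 = (i - 1) * (i + 1) by ring] at h5
    rcases (Nat.prime_iff_prime_int.mp hT).dvd_or_dvd h5 with h6 | h6
    · exfalso
      have h7 : ((a : Γ) * t * (a : Γ)⁻¹) ^ (i - 1) = 1 := orderOf_dvd_iff_zpow_eq_one.mp (hord ▸ h6)
      rw [zpow_sub, zpow_one, mul_inv_eq_one] at h7
      rw [h7] at e2
      have h8 : (a : Γ) * t * (a : Γ)⁻¹ ∈ T := hfix _ e2 (hord ▸ hnodd)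
      refine ha (Subgroup.mem_subgroupOf.mpr ⟨a.2, Subgroup.mem_normalizer_fintype fun b hb => ?_⟩)
      obtain ⟨k, rfl⟩ := hfull ht ht1 b hb
      rw [← conj_zpow]
      exact zpow_mem h8 k
    · have h7 : ((a : Γ) * t * (a : Γ)⁻¹) ^ (i + 1) = 1 := orderOf_dvd_iff_zpow_eq_one.mp (hord ▸ h6)
      rw [zpow_add_one] at h7
      rw [e2, eq_inv_of_mul_eq_one_left h7]
      group
  -- a contradiction
  have hyN : (a₀ * tY * a₀⁻¹) ∉ N' := by
    intro hm
    rw [Subgroup.mem_subgroupOf] at hm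
    have hord : orderOf ((a₀ : Γ) * t * (a₀ : Γ)⁻¹) = n := by
      have h4 := orderOf_injective (MulAut.conj (a₀ : Γ)).toMonoidHom (MulAut.conj (a₀ : Γ)).injective t
      rw [hto] at h4
      simpa using h4
    have h8 := hoddN _ (by simpa [tY] using hm) (hord ▸ hnodd)
    have ht1 : t ≠ 1 := fun e => by rw [e, orderOf_one] at hto; exact hT.ne_one hto.symm
    refine ha₀ (Subgroup.mem_subgroupOf.mpr ⟨a₀.2, Subgroup.mem_normalizer_fintype fun b hb => ?_⟩)
    obtain ⟨k, rfl⟩ := hfull ht ht1 b hb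
    rw [← conj_zpow]
    exact zpow_mem h8 k
  set y := (a₀ : Γ) * t * (a₀ : Γ)⁻¹ with hy
  have hθy : θ y = y⁻¹ := by rw [hy, hinv a₀ ha₀]; group
  have h9 := hinv _ hyN
  have hcoe : (((a₀ * tY * a₀⁻¹ : Y)) : Γ) = y := by simp [tY, hy]
  rw [hcoe, map_mul, map_mul, map_inv, hθy, hθT t ht, inv_inv] at h9
  have hyy : (y * y)⁻¹ * t * (y * y) = t⁻¹ := by
    calc (y * y)⁻¹ * t * (y * y) = y⁻¹ * (y⁻¹ * t * y) * y := by group
      _ = y⁻¹ * (y * t⁻¹ * y⁻¹) * y := by rw [h9]
      _ = t⁻¹ := by group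
  have ht1 : t ≠ 1 := fun e => by rw [e, orderOf_one] at hto; exact hT.ne_one hto.symm
  have hyord : orderOf y = n := by
    have h4 := orderOf_injective (MulAut.conj (a₀ : Γ)).toMonoidHom (MulAut.conj (a₀ : Γ)).injective t
    rw [hto] at h4
    simpa [hy] using h4
  have hyY : y ∈ Y := by rw [← hcoe]; exact Subtype.prop _
  have hN2 : (y * y)⁻¹ ∈ N := by
    refine ⟨Y.inv_mem (Y.mul_mem hyY hyY), Subgroup.mem_normalizer_fintype fun b hb => ?_⟩
    obtain ⟨k, rfl⟩ := hfull ht ht1 b hb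
    rw [← conj_zpow, inv_inv, hyy]
    exact T.zpow_mem (T.inv_mem ht) k
  have hy2 : y * y ∈ T := by
    have h4 : Odd (orderOf (y * y)⁻¹) := by
      rw [orderOf_inv, ← pow_two]
      exact (hyord ▸ hnodd).of_dvd_nat (orderOf_pow_dvd 2)
    simpa using inv_mem (hoddN _ hN2 h4)
  have hyT : y ∈ T := by
    obtain ⟨j, hj⟩ := hyord ▸ hnodd
    have h1 : (y * y) ^ (j + 1) = y := by
      rw [← pow_two, ← pow_mul, show 2 * (j + 1) = n + 1 by omega, pow_succ, ← hyord, pow_orderOf_eq_one, one_mul]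
    exact h1 ▸ pow_mem hy2 _
  refine hyN (Subgroup.mem_subgroupOf.mpr ⟨Subtype.prop _, Subgroup.le_normalizer ?_⟩)
  rw [hcoe]
  exact hyT

end CfsgLib.RankTwoModel.Below
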