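import Cfsg.Agent.Lib.RankTwoModel.Below.Ctx
import Cfsg.Agent.Lib.RankTwoModel.Rep
import Cfsg.Agent.Lib.PSolvable

/-!
The case `O_p(C(U)) = 1`: the fixed points of `v` on `F(M)` lie in `O_p(C(v))` for the involutions `v` of the four
group.

Blueprint: `blueprint/RankTwo_L5.md`, section E.
-/

set_option autoImplicit false
set_option linter.unusedSectionVars false
set_option linter.style.haveILetI false

namespace CfsgLib.RankTwoModel

open Cfsg CfsgLib.BG CfsgLib.GW CfsgLib.BenderMax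

universe u

variable {G : Type u} [Group G] [Finite G] {d : Frame G} {M : Subgroup G} {p : ℕ}

/-- `O_p(C(U)) = 1`. -/
def Free (d : Frame G) (p : ℕ) (u : G) : Prop := OO p (d.C ⊓ Subgroup.centralizer ({u} : Set G)) = ⊥

theorem Tri.inf_symm {u g : G} (T : Tri d u g) :
    d.C ⊓ Subgroup.centralizer ({d.z * u} : Set G) = d.C ⊓ Subgroup.centralizer ({u} : Set G) := by
  ext x
  simp only [Subgroup.mem_inf, mem_cent]
  refine and_congr_right fun hx => ?_
  have hz : Commute x d.z := Frame.Spec.z_central hx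
  constructor
  · intro hc
    have := hz.mul_right (show Commute x (d.z * u) from hc)
    rwa [T.z_zu] at this
  · intro hc
    exact (hz.mul_right (show Commute x u from hc)).eq

theorem pow_order_cj (hp : p.Prime) {g : G} {f : G} (hf : f ∈ cj g (OO p M)) : ∃ j, orderOf f = p ^ j := by
  rw [← OO_cj] at hf
  exact OO_pow_order hp hf

theorem Free.symm {u g : G} (hA : Free d p u) (T : Tri d u g) : Free d p (d.z * u) := by
  rw [Free, T.inf_symm]; exact hA

variable (K : LCtx d M p) {u g : G} (T : Tri d u g) (hA : Free d p u)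
include K T hA

/-- `u` fixes nothing in `O_p(C)`. -/
theorem LCtx.W_free {w : G} (hw : w ∈ OO p d.C) (hc : u * w = w * u) : w = 1 := by
  have h1 : w ∈ OO p (d.C ⊓ Subgroup.centralizer ({u} : Set G)) := by
    refine isPGroup_normal_le_OO (R := OO p d.C ⊓ Subgroup.centralizer ({u} : Set G))
      ((OO_isPGroup p d.C).to_le inf_le_left) (inf_le_inf_right _ OO_le) (fun y hy x hx => ⟨conj_OO hy.1 hx.1,
        (Subgroup.centralizer _).mul_mem ((Subgroup.centralizer _).mul_mem hy.2 hx.2)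
          ((Subgroup.centralizer _).inv_mem hy.2)⟩) ⟨hw, mem_cent.2 hc.symm⟩
  rwa [hA, Subgroup.mem_bot] at h1

/-- `u` inverts `O_p(C)`. -/
theorem LCtx.W_inv : ∀ w ∈ OO p d.C, u * w * u⁻¹ = w⁻¹ :=
  inverts_of_free (K.odd_of_pgroup (OO_isPGroup p d.C)) T.ord (mem_normalizer_OO T.mem) fun _ hw hc =>
    K.W_free T hA hw hc

theorem LCtx.W_comm {a b : G} (ha : a ∈ OO p d.C) (hb : b ∈ OO p d.C) : a * b = b * a := by
  have h1 := K.W_inv T hA _ (mul_mem ha hb)
  rw [show u * (a * b) * u⁻¹ = (u * a * u⁻¹) * (u * b * u⁻¹) by group, K.W_inv T hA a ha, K.W_inv T hA b hb] at h1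
  have h2 := congrArg (fun x => x⁻¹) h1
  simpa using h2.symm

/-- `D` centralises `O_p(C)`. -/
theorem LCtx.D_cent_W {x w : G} (hx : x ∈ d.D) (hw : w ∈ OO p d.C) : x * w = w * x := by
  refine (Subgroup.mem_centralizer_iff.1 (K.spec.D_le_of_comm K.hyp K.lt T.ord T.mem T.ne
    (K := Subgroup.centralizer (OO p d.C : Set G)) (fun a ha k hk _ => ?_) (fun a ha => ?_) hx) w hw).symm
  · refine Subgroup.mem_centralizer_iff.2 fun b hb => ?_
    have h1 : Commute (a⁻¹ * b * a) k := Subgroup.mem_centralizer_iff.1 hk _ (by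
      simpa using conj_OO (d.C.inv_mem (d.D_le ha)) hb)
    calc b * (a * k * a⁻¹) = a * ((a⁻¹ * b * a) * k) * a⁻¹ := by group
      _ = a * (k * (a⁻¹ * b * a)) * a⁻¹ := by rw [h1.eq]
      _ = a * k * a⁻¹ * b := by group
  · refine Subgroup.mem_centralizer_iff.2 fun b hb => ?_
    have hb1 : a⁻¹ * b * a ∈ OO p d.C := by simpa using conj_OO (d.C.inv_mem (d.D_le ha)) hb
    have e1 : u⁻¹ * (a⁻¹ * b * a) * u = (a⁻¹ * b * a)⁻¹ := by
      have := K.W_inv T hA _ hb1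
      rwa [invol_inv T.ord] at this ⊢
    have e2 : u * b⁻¹ * u⁻¹ = b := by rw [K.W_inv T hA _ (inv_mem hb), inv_inv]
    refine eq_mul_inv_iff_mul_eq.1 ?_ |>.symm
    calc u * a * u⁻¹ * a⁻¹ = u * a * u⁻¹ * a⁻¹ * (b * b⁻¹) := by group
      _ = u * (a * (u⁻¹ * (a⁻¹ * b * a) * u) * a⁻¹) * u⁻¹ * (u * a * u⁻¹ * a⁻¹) * b⁻¹ := by group
      _ = u * b⁻¹ * u⁻¹ * (u * a * u⁻¹ * a⁻¹) * b⁻¹ := by rw [e1]; group
      _ = b * (u * a * u⁻¹ * a⁻¹) * b⁻¹ := by rw [e2]

/-- `D` moves some other `O_r(C)`. -/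
theorem LCtx.exists_other_prime (hOD : ¬ ∀ x ∈ d.O, ∀ y ∈ d.D, x * y = y * x) :
    ∃ r, r.Prime ∧ r ≠ 2 ∧ r ≠ p ∧ ∃ x ∈ OO r d.C, ∃ y ∈ d.D, x * y ≠ y * x := by
  obtain ⟨r, hr, hr2, x, hx, y, hy, hne⟩ := K.spec.exists_prime K.hyp K.lt hOD
  refine ⟨r, hr, hr2, fun e => hne ?_, x, hx, y, hy, hne⟩
  subst e
  exact (K.D_cent_W T hA hy hx).symm

/-- `z` and `u` fix nothing in `F`. -/
theorem LCtx.F_free {f : G} (hf : f ∈ OO p M) (hz : d.z * f = f * d.z) (hu : u * f = f * u) : f = 1 :=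
  K.W_free T hA (K.fixed_le_W hf (mem_cent.2 hz.symm)) hu

/-- `u` inverts `F(M^g) ∩ C`. -/
theorem LCtx.inv_cj {f : G} (hf : f ∈ cj g (OO p M)) (hfC : f ∈ d.C) : u * f * u⁻¹ = f⁻¹ := by
  have huF : u ∈ Subgroup.normalizer (cj g (OO p M) : Set G) := by
    rw [← OO_cj, ← T.z_to]
    exact mem_normalizer_OO (conj_mem_cj K.z_mem)
  refine inverts_of_free (P := cj g (OO p M) ⊓ d.C) (K.odd_of_pgroup
    (((OO_isPGroup p M).map _).to_le inf_le_left)) T.ord (Subgroup.mem_normalizer_fintype fun y hy =>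
      ⟨mem_normalizer_of_mem huF hy.1, d.C.mul_mem (d.C.mul_mem T.mem hy.2) (d.C.inv_mem T.mem)⟩)
    (fun y hy hc => ?_) f ⟨hf, hfC⟩
  have hy1 : g⁻¹ * y * g ∈ OO p M := mem_cj.1 hy.1
  have h1 : Commute (g⁻¹ * u * g) (g⁻¹ * y * g) := by
    have := (Commute.conj_iff g⁻¹).2 (show Commute u y from hc)
    simpa using this
  have h2 : Commute (g⁻¹ * d.z * g) (g⁻¹ * y * g) := by
    have := (Commute.conj_iff g⁻¹).2 (show Commute d.z y from (Frame.Spec.z_central hy.2).symm)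
    simpa using this
  rw [T.back_u] at h1
  rw [T.back_z] at h2
  have h3 := h1.mul_left h2
  rw [T.z_zu] at h3
  have h4 := K.F_free T hA hy1 h1.eq h3.eq
  calc y = g * (g⁻¹ * y * g) * g⁻¹ := by group
    _ = 1 := by rw [h4]; group

/-- An element of `C` inverted by `u` centralises a group in `C` normalised by it if it fixes the fixed points of `u`
there modulo a subgroup. -/
theorem LCtx.comm_W {f y : G} (hf : f ∈ cj g (OO p M)) (hy : Commute y u) :
    f * y * f⁻¹ * y⁻¹ ∈ cj g (OO p M) := by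
  have hyM : y ∈ cj g M := cj_mono K.C_le (T.cj_C ▸ mem_cent.2 hy.eq)
  rw [show f * y * f⁻¹ * y⁻¹ = f * (y * f⁻¹ * y⁻¹) by group]
  refine mul_mem hf ?_
  rw [← OO_cj] at hf ⊢
  exact conj_OO hyM (inv_mem hf)

/-- The elements of `F(M^g) ∩ C` centralise `O_s(C)`, `s ≠ p`. -/
theorem LCtx.cent_OO {f : G} (hf : f ∈ cj g (OO p M)) (hfC : f ∈ d.C) {s : ℕ} (hs : s.Prime) (hs2 : s ≠ 2)
    (hsp : s ≠ p) : ∀ y ∈ OO s d.C, f * y = y * f := by
  haveI := Fact.mk hs
  haveI := Fact.mk K.prime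
  obtain ⟨k, hk⟩ := (OO_isPGroup s d.C).exists_card_eq
  obtain ⟨j, hj⟩ := pow_order_cj K.prime hf
  have hcop : ∀ a b : ℕ, (p ^ a).Coprime (s ^ b) := fun a b =>
    Nat.Coprime.pow a b ((Nat.coprime_primes K.prime hs).2 (Ne.symm hsp))
  refine centralizes_of_inverted (OO_isPGroup s d.C).isNilpotent (OO_odd hs hs2 _) T.ord (mem_normalizer_OO hfC)
    (mem_normalizer_OO T.mem) (K.inv_cj T hA hf hfC) (hj ▸ (K.prime.odd_of_ne_two K.ne_two).pow) (hj ▸ hk ▸ hcop j k)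
    fun y hy hc => ?_
  set c := f * y * f⁻¹ * y⁻¹
  have hc1 : c ∈ cj g (OO p M) := K.comm_W T hA hf (show Commute y u from hc.symm)
  have hc2 : c ∈ OO s d.C := mul_mem (mem_normalizer_of_mem (mem_normalizer_OO hfC) hy) (inv_mem hy)
  have hbot : cj g (OO p M) ⊓ OO s d.C = ⊥ := by
    refine Subgroup.inf_eq_bot_of_coprime ?_
    obtain ⟨a, ha⟩ := ((OO_isPGroup p M).map (MulAut.conj g).toMonoidHom).exists_card_eq
    exact ha ▸ hk ▸ hcop a k
  have : c = 1 := Subgroup.mem_bot.1 (hbot ▸ ⟨hc1, hc2⟩)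
  exact mul_inv_eq_iff_eq_mul.1 (mul_inv_eq_one.1 this)

/-- They lie in `O`. -/
theorem LCtx.mem_O (hOD : ¬ ∀ x ∈ d.O, ∀ y ∈ d.D, x * y = y * x) {f : G} (hf : f ∈ cj g (OO p M))
    (hfC : f ∈ d.C) : f ∈ d.O := by
  obtain ⟨r, hr, hr2, hrp, x₀, hx₀, y₀, hy₀, hne⟩ := K.exists_other_prime T hA hOD
  have hd := K.spec
  have hq := K.lt
  obtain ⟨R⟩ := hd.exists_rep
  haveI := Fact.mk K.prime
  -- the kernel on `O_r(C)`
  set Kr : Subgroup ↥d.L := (Subgroup.centralizer (OO r d.C : Set G)).subgroupOf d.L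
  haveI : Kr.Normal := ⟨fun k hk a => by
    rw [Subgroup.mem_subgroupOf, Subgroup.mem_centralizer_iff] at hk ⊢
    intro b hb
    have h1 : ((a : G)⁻¹ * b * a) * k = k * ((a : G)⁻¹ * b * a) :=
      hk _ (by simpa using conj_OO (d.C.inv_mem (d.L_le a.2)) hb)
    show b * ((a : G) * k * (a : G)⁻¹) = (a : G) * k * (a : G)⁻¹ * b
    calc b * ((a : G) * k * (a : G)⁻¹) = (a : G) * (((a : G)⁻¹ * b * a) * k) * (a : G)⁻¹ := by group
      _ = (a : G) * (k * ((a : G)⁻¹ * b * a)) * (a : G)⁻¹ := by rw [h1]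
      _ = _ := by group⟩
  haveI := (inferInstance : Kr.Normal).map R.π R.surj
  rcases sl2_normal hd hq (Kr.map R.π) with hcen | htop
  swap
  · exfalso
    haveI := d.D_perfect
    let φ : ↥d.D →* ↥d.L ⧸ Kr := (QuotientGroup.mk' Kr).comp (Subgroup.inclusion (hd.D_le_L hq))
    have hsurj : ∀ b : ↥d.L ⧸ Kr, ∃ o : ↥(d.O.subgroupOf d.L), QuotientGroup.mk' Kr o = b := fun b => by
      obtain ⟨a, rfl⟩ := QuotientGroup.mk'_surjective Kr b
      obtain ⟨k, hk, hka⟩ := htop.ge (Subgroup.mem_top (R.π a))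
      refine ⟨⟨k⁻¹ * a, Subgroup.mem_subgroupOf.2 ((R.ker (k⁻¹ * a)).1 (by rw [map_mul, map_inv, hka, inv_mul_cancel]))⟩, ?_⟩
      rw [map_mul, map_inv, show QuotientGroup.mk' Kr k = 1 from (QuotientGroup.eq_one_iff k).2 hk, inv_one, one_mul]
    have hodd : Odd (Nat.card (↥d.L ⧸ Kr)) :=
      (odd_subgroupOf (H := d.L) d.O_odd).of_dvd_nat (Subgroup.card_dvd_of_surjective
        ((QuotientGroup.mk' Kr).comp (d.O.subgroupOf d.L).subtype) hsurj)
    haveI : Group.IsPerfect φ.range :=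
      Group.IsPerfect.ofSurjective (f := φ.rangeRestrict) φ.rangeRestrict_surjective
    haveI : Subsingleton φ.range :=
      CfsgLib.GW.subsingleton_of_odd (hodd.of_dvd_nat (Subgroup.card_subgroup_dvd_card φ.range))
    have h1 : φ ⟨y₀, hy₀⟩ = 1 := congrArg Subtype.val
      (Subsingleton.elim (⟨φ ⟨y₀, hy₀⟩, ⟨y₀, hy₀⟩, rfl⟩ : φ.range) 1)
    exact hne (Subgroup.mem_centralizer_iff.1 ((QuotientGroup.eq_one_iff _).1 h1 :
      (⟨y₀, hd.D_le_L hq hy₀⟩ : ↥d.L) ∈ Kr) x₀ hx₀)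
  have hcent := K.cent_OO T hA hf hfC hr hr2 hrp
  have hσ : R.σ ⟨f, hfC⟩ = 1 := by
    refine SL2.eq_of_mk (hd.three_lt hq) fun A => ?_
    obtain ⟨a, rfl⟩ := R.surj A
    rw [MulAut.one_apply, R.compat]
    have hmem : (⟨f * a * f⁻¹, d.L_conj hfC a.2⟩ : ↥d.L) * a⁻¹ ∈ Kr := by
      rw [Subgroup.mem_subgroupOf, Subgroup.mem_centralizer_iff]
      intro b hb
      show b * (f * (a : G) * f⁻¹ * (a : G)⁻¹) = f * (a : G) * f⁻¹ * (a : G)⁻¹ * b
      have hb1 : (a : G)⁻¹ * b * a ∈ OO r d.C := by simpa using conj_OO (d.C.inv_mem (d.L_le a.2)) hb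
      have c1 : Commute f b := hcent b hb
      have c2 : Commute f ((a : G)⁻¹ * b * a) := hcent _ hb1
      symm
      calc f * (a : G) * f⁻¹ * (a : G)⁻¹ * b = f * (a : G) * (f⁻¹ * ((a : G)⁻¹ * b * a)) * (a : G)⁻¹ := by group
        _ = f * (a : G) * (((a : G)⁻¹ * b * a) * f⁻¹) * (a : G)⁻¹ := by rw [c2.inv_left.eq]
        _ = f * b * ((a : G) * f⁻¹ * (a : G)⁻¹) := by group
        _ = b * f * ((a : G) * f⁻¹ * (a : G)⁻¹) := by rw [c1.eq]
        _ = _ := by group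
    have h1 := hcen ⟨_, hmem, rfl⟩
    rw [← SL2.mk_center] at h1
    rwa [map_mul, map_inv, map_mul, map_inv, mul_inv_eq_one] at h1
  obtain ⟨j, hj⟩ := pow_order_cj K.prime hf
  exact R.sigma_eq_one hd hq K.hyp hfC (hj ▸ (K.prime.odd_of_ne_two K.ne_two).pow) hσ

/-- **The fixed points of `z` on `F(M^g)` lie in `O_p(C)`.** -/
theorem LCtx.cent_le (hOD : ¬ ∀ x ∈ d.O, ∀ y ∈ d.D, x * y = y * x) {f : G} (hf : f ∈ cj g (OO p M))
    (hfC : f ∈ d.C) : f ∈ OO p d.C := by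
  classical
  haveI := Fact.mk K.prime
  set W' := Cfsg.pCore p ↥d.C with hW'
  set π := QuotientGroup.mk' W'
  have hπ := QuotientGroup.mk'_surjective W'
  set Ob := (oddCore ↥d.C).map π with hOb
  haveI : Ob.Normal := (inferInstance : (oddCore ↥d.C).Normal).map π hπ
  have hObodd : Odd (Nat.card Ob) :=
    (CfsgLib.odd_card_oddCore (G := ↥d.C)).of_dvd_nat (Subgroup.card_map_dvd _ π)
  haveI : Group.IsSolvable Ob := CfsgLib.OddOrder.feitThompson hObodd
  set fC : ↥d.C := ⟨f, hfC⟩ with hfCdef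
  set uC : ↥d.C := ⟨u, T.mem⟩ with huCdef
  have hfO : fC ∈ oddCore ↥d.C := by
    obtain ⟨y, hy, hyf⟩ : ∃ y : ↥d.C, y ∈ oddCore ↥d.C ∧ (y : G) = f := K.mem_O T hA hOD hf hfC
    exact (show y = fC from Subtype.ext hyf) ▸ hy
  obtain ⟨j, hj⟩ := pow_order_cj K.prime hf
  have hjC : orderOf fC = p ^ j := (Subgroup.orderOf_mk f hfC).trans hj
  -- `p`-groups in the image are trivial
  have hnop : ∀ P : Subgroup (↥d.C ⧸ W'), P.Normal → IsPGroup p P → P = ⊥ := fun P hPn hP => by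
    have h1 : P.comap π ≤ W' := by
      haveI := hPn
      exact CfsgLib.le_pCore (hP.comap_of_ker_isPGroup π (by rw [QuotientGroup.ker_mk']; exact CfsgLib.isPGroup_pCore p))
    rw [eq_bot_iff]
    intro x hx
    obtain ⟨y, rfl⟩ := hπ x
    exact Subgroup.mem_bot.2 ((QuotientGroup.eq_one_iff y).2 (h1 hx))
  set fb : Ob := ⟨π fC, fC, hfO, rfl⟩ with hfb
  have hfix : ∀ s : Nat.Primes, ∀ x ∈ Cfsg.pCore (s : ℕ) Ob, fb * x = x * fb := by
    rintro ⟨s, hs⟩ x hx
    haveI := Fact.mk hs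
    set P := (Cfsg.pCore s Ob).map Ob.subtype with hP
    have hPp : IsPGroup s P := (CfsgLib.isPGroup_pCore s).map _
    haveI hPn : P.Normal := by
      rw [hP]; infer_instance
    have hPO : P ≤ Ob := Subgroup.map_subtype_le _
    have hxP : (x : ↥d.C ⧸ W') ∈ P := ⟨x, hx, rfl⟩
    refine Subtype.ext ?_
    show π fC * (x : ↥d.C ⧸ W') = (x : ↥d.C ⧸ W') * π fC
    by_cases hs2 : s = 2
    · subst hs2
      have hb : P = ⊥ := by
        by_contra hne
        exact two_group_even hPp hne (hObodd.of_dvd_nat (Subgroup.card_dvd_of_le hPO))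
      rw [hb, Subgroup.mem_bot] at hxP
      rw [hxP, mul_one, one_mul]
    by_cases hsp : s = p
    · subst hsp
      rw [hnop P hPn hPp, Subgroup.mem_bot] at hxP
      rw [hxP, mul_one, one_mul]
    -- coprime action of `u`
    have hPodd : Odd (Nat.card P) := hObodd.of_dvd_nat (Subgroup.card_dvd_of_le hPO)
    obtain ⟨k, hk⟩ := hPp.exists_card_eq
    have hcop : (orderOf (π fC)).Coprime (Nat.card P) := by
      rw [hk]
      exact ((Nat.Coprime.pow j k ((Nat.coprime_primes K.prime hs).2 (Ne.symm hsp)))).coprime_dvd_left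
        (hjC ▸ orderOf_map_dvd π fC)
    have hub : orderOf (π uC) = 2 := by
      refine orderOf_eq_prime (hp := ⟨Nat.prime_two⟩) (by
        rw [sq, ← map_mul, show uC * uC = 1 from Subtype.ext T.uu, map_one]) fun e => ?_
      have h1 : uC ∈ W' := (QuotientGroup.eq_one_iff uC).1 e
      exact not_mem_of_odd (K.odd_of_pgroup (OO_isPGroup p d.C)) T.ord ⟨uC, h1, rfl⟩
    have hnP : ∀ a : ↥d.C ⧸ W', a ∈ Subgroup.normalizer (P : Set (↥d.C ⧸ W')) := fun a => by
      rw [Subgroup.normalizer_eq_top]; trivial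
    refine centralizes_of_inverted hPp.isNilpotent hPodd hub (hnP _) (hnP _) ?_
      ((hjC ▸ (K.prime.odd_of_ne_two K.ne_two).pow : Odd (orderOf fC)).of_dvd_nat (orderOf_map_dvd π fC)) hcop
      (fun y hy hc => ?_) _ hxP
    · rw [← map_inv, ← map_mul, ← map_mul, ← map_inv]
      exact congrArg π (Subtype.ext (K.inv_cj T hA hf hfC))
    -- lift the fixed point
    obtain ⟨k₀, rfl⟩ := hπ y
    set K₀ := P.comap π with hK₀
    have hK₀odd : Odd (Nat.card K₀) := by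
      have hle : K₀ ≤ ((oddCore ↥d.C) ⊔ W') := by
        intro a ha
        obtain ⟨o, ho, hoa⟩ := hPO (show π a ∈ P from ha)
        have h1 : o⁻¹ * a ∈ W' := QuotientGroup.eq.1 hoa
        simpa using mul_mem (Subgroup.mem_sup_left (T := W') ho) (Subgroup.mem_sup_right h1)
      have hW'O : W' ≤ oddCore ↥d.C := CfsgLib.le_oddCore (K.odd_of_pgroup (X := OO p d.C) (OO_isPGroup p d.C) |>
        fun h => by rwa [OO, Subgroup.card_map_of_injective d.C.subtype_injective] at h)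
      rw [sup_eq_left.2 hW'O] at hle
      exact (CfsgLib.odd_card_oddCore (G := ↥d.C)).of_dvd_nat (Subgroup.card_dvd_of_le hle)
    have hA2 : Nat.card (Subgroup.zpowers uC) = 2 := by
      rw [Nat.card_zpowers, ← Subgroup.orderOf_coe]; exact T.ord
    obtain ⟨c, ⟨hcK, hcA⟩, hkc⟩ := coprime_fixed_quotient (A := Subgroup.zpowers uC) (K := K₀) (N := W')
      (fun a _ => by rw [Subgroup.normalizer_eq_top]; trivial) (by rw [hA2]; exact Nat.coprime_two_left.2 hK₀odd)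
      (Or.inl inferInstance) (fun a ha => show π a ∈ P by
        rw [show π a = 1 from (QuotientGroup.eq_one_iff a).2 ha]; exact one_mem P)
      (fun a _ => by rw [Subgroup.normalizer_eq_top]; trivial) (fun a _ => by rw [Subgroup.normalizer_eq_top]; trivial)
      (k := k₀) hy (fun a ha => by
        obtain ⟨i, rfl⟩ := Subgroup.mem_zpowers_iff.1 ha
        refine (QuotientGroup.eq_one_iff _).1 ?_
        show π _ = 1
        simp only [map_mul, map_inv, map_zpow]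
        rw [((show Commute (π uC) (π k₀) from hc).zpow_left i).eq]
        group)
    have hck : π c = π k₀ := (QuotientGroup.eq.2 hkc).symm
    rw [← hck]
    have hcu : Commute (c : G) u := (congrArg Subtype.val (hcA uC (Subgroup.mem_zpowers uC))).symm
    -- the commutator
    set e := fC * c * fC⁻¹ * c⁻¹
    have he1 : ∃ i, e ^ p ^ i = 1 := by
      obtain ⟨i, hi⟩ := pow_order_cj K.prime (K.comm_W T hA hf hcu)
      exact ⟨i, Subtype.ext (show (e : G) ^ p ^ i = 1 from hi ▸ pow_orderOf_eq_one (e : G))⟩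
    obtain ⟨i, hi⟩ := he1
    have he2 : π e ∈ P := by
      have hcP : π c ∈ P := hck ▸ hy
      rw [show π e = π fC * π c * (π fC)⁻¹ * (π c)⁻¹ by simp only [e, map_mul, map_inv]]
      exact mul_mem (hPn.conj_mem _ hcP _) (inv_mem hcP)
    have h1 : orderOf (π e) ∣ p ^ i := orderOf_dvd_of_pow_eq_one (by rw [← map_pow, hi, map_one])
    have h2 : orderOf (π e) ∣ s ^ k := hk ▸ Subgroup.orderOf_dvd_natCard _ he2
    have h3 : π e = 1 := orderOf_eq_one_iff.1 (Nat.eq_one_of_dvd_coprimes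
      (Nat.Coprime.pow i k ((Nat.coprime_primes K.prime hs).2 (Ne.symm hsp))) h1 h2)
    rw [show π e = π fC * π c * (π fC)⁻¹ * (π c)⁻¹ by simp only [e, map_mul, map_inv], mul_inv_eq_one] at h3
    exact mul_inv_eq_iff_eq_mul.1 h3
  -- self-centralisation
  have hfF : fb ∈ Cfsg.fittingSubgroup Ob := by
    refine CfsgLib.centralizer_fitting_le (Subgroup.mem_centralizer_iff.2 fun y hy => ?_)
    have hle : Cfsg.fittingSubgroup Ob ≤ Subgroup.centralizer ({fb} : Set Ob) := by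
      rw [CfsgLib.fittingSubgroup_eq_iSup_pCore]
      exact iSup_le fun s x hx => mem_cent.2 (hfix s x hx).symm
    exact mem_cent.1 (hle hy)
  have hfp : fb ∈ Cfsg.pCore p Ob := by
    have h1 : (fb : ↥d.C ⧸ W') ∈ FF Ob := ⟨fb, hfF, rfl⟩
    obtain ⟨i, -, hi⟩ := (Nat.dvd_prime_pow K.prime).1 (hjC ▸ orderOf_map_dvd π fC)
    obtain ⟨y, hy, hye⟩ := mem_OO_of_FF K.prime h1 (show orderOf (fb : ↥d.C ⧸ W') = p ^ i from hi)
    exact (show y = fb from Subtype.ext hye) ▸ hy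
  have hb : (Cfsg.pCore p Ob).map Ob.subtype = ⊥ :=
    hnop _ inferInstance ((CfsgLib.isPGroup_pCore p).map _)
  have h1 : π fC = 1 := Subgroup.mem_bot.1 (hb ▸ ⟨fb, hfp, rfl⟩)
  exact ⟨fC, (QuotientGroup.eq_one_iff fC).1 h1, rfl⟩

end CfsgLib.RankTwoModel
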