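import Cfsg.Agent.Lib.RankTwoModel.Below.Free
import Cfsg.Agent.Lib.CoprimeSeries

/-!
A `p`-subgroup of `M` invariant under the normaliser of a four group whose normaliser meets `F(M)` outside `C`.

Blueprint: `blueprint/RankTwo_L5.md`, section E.
-/

set_option autoImplicit false
set_option linter.unusedSectionVars false
set_option linter.style.haveILetI false

namespace CfsgLib.RankTwoModel

open Cfsg CfsgLib.BG CfsgLib.GW CfsgLib.BenderMax

universe u

variable {G : Type u} [Group G] [Finite G]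

/-- The three conjugates of a subgroup. -/
def orb (g : G) (X : Subgroup G) : Subgroup G := X ⊔ cj g X ⊔ cj (g * g) X

theorem cj_sup (g : G) (A B : Subgroup G) : cj g (A ⊔ B) = cj g A ⊔ cj g B := Subgroup.map_sup _ _ _

theorem mem_normalizer_of_cj_eq {A : Subgroup G} {n : G} (h : cj n A ≤ A) :
    n ∈ Subgroup.normalizer (A : Set G) :=
  Subgroup.mem_normalizer_fintype fun _ hx => h (conj_mem_cj hx)

theorem mem_normalizer_OO_of_normalizer {r : ℕ} {A : Subgroup G} {n : G}
    (h : n ∈ Subgroup.normalizer (A : Set G)) : n ∈ Subgroup.normalizer (OO r A : Set G) := by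
  have e : cj n A = A := by
    refine le_antisymm ?_ fun x hx => mem_cj.2 (inv_conj_mem h hx)
    rintro _ ⟨x, hx, rfl⟩
    exact mem_normalizer_of_mem h hx
  exact mem_normalizer_of_cj_eq (by rw [← OO_cj, e])

variable {d : Frame G} {M : Subgroup G} {p : ℕ}

/-- The elements permuting `z, u, z u` permute the three conjugates of a `C`-invariant subgroup. -/
theorem Tri.mem_normalizer_orb {u g : G} (T : Tri d u g) {X : Subgroup G}
    (hX : d.C ≤ Subgroup.normalizer (X : Set G)) {n : G}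
    (hn : ∀ v, v = d.z ∨ v = u ∨ v = d.z * u →
      n * v * n⁻¹ = d.z ∨ n * v * n⁻¹ = u ∨ n * v * n⁻¹ = d.z * u) :
    n ∈ Subgroup.normalizer (orb g X : Set G) := by
  have hC : ∀ {c : G}, c ∈ d.C → cj c X = X := fun {c} hc => by
    refine le_antisymm ?_ fun x hx => mem_cj.2 (inv_conj_mem (hX hc) hx)
    rintro _ ⟨x, hx, rfl⟩
    exact mem_normalizer_of_mem (hX hc) hx
  have key : ∀ a : G, (a * d.z * a⁻¹ = d.z ∨ a * d.z * a⁻¹ = u ∨ a * d.z * a⁻¹ = d.z * u) →
      cj a X ≤ orb g X := by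
    intro a ha
    rcases ha with e | e | e
    · rw [hC (mem_cent.2 (mul_inv_eq_iff_eq_mul.1 e))]
      exact le_sup_left.trans le_sup_left
    · have h1 : g⁻¹ * a ∈ d.C := mem_cent.2 (mul_inv_eq_iff_eq_mul.1 (by
        rw [show g⁻¹ * a * d.z * (g⁻¹ * a)⁻¹ = g⁻¹ * (a * d.z * a⁻¹) * g by group, e, T.back_u]))
      rw [show a = g * (g⁻¹ * a) by group, ← cj_cj, hC h1]
      exact le_sup_right.trans le_sup_left
    · have h1 : (g * g)⁻¹ * a ∈ d.C := mem_cent.2 (mul_inv_eq_iff_eq_mul.1 (by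
        rw [show (g * g)⁻¹ * a * d.z * ((g * g)⁻¹ * a)⁻¹ = (g * g)⁻¹ * (a * d.z * a⁻¹) * (g * g) by simp only [mul_inv_rev, inv_inv, mul_assoc], e,
          T.symm.back_u]))
      rw [show a = g * g * ((g * g)⁻¹ * a) by group, ← cj_cj, hC h1]
      exact le_sup_right
  refine mem_normalizer_of_cj_eq ?_
  rw [orb, cj_sup, cj_sup, cj_cj, cj_cj]
  refine sup_le (sup_le (key n (hn _ (Or.inl rfl))) (key _ ?_)) (key _ ?_)
  · rw [show n * g * d.z * (n * g)⁻¹ = n * (g * d.z * g⁻¹) * n⁻¹ by group, T.z_to]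
    exact hn _ (Or.inr (Or.inl rfl))
  · rw [show n * (g * g) * d.z * (n * (g * g))⁻¹ = n * (g * g * d.z * (g * g)⁻¹) * n⁻¹ by group, T.symm.z_to]
    exact hn _ (Or.inr (Or.inr rfl))

variable (K : LCtx d M p) {u g : G} (T : Tri d u g)
include K T

/-- A minimal `C`-invariant subgroup of `F` moved by `z`, centralised by `O_p(C)`. -/
theorem LCtx.exists_min : ∃ X : Subgroup G, X ≤ OO p M ∧ d.C ≤ Subgroup.normalizer (X : Set G) ∧
    (∃ x ∈ X, d.z * x ≠ x * d.z) ∧ (∀ x ∈ X, ∀ w ∈ OO p d.C, x * w = w * x) ∧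
    ∀ Y ≤ X, d.C ≤ Subgroup.normalizer (Y : Set G) → (∃ y ∈ Y, d.z * y ≠ y * d.z) → Y = X := by
  classical
  haveI := Fact.mk K.prime
  let 𝒮 : Set (Subgroup G) :=
    {X | X ≤ OO p M ∧ d.C ≤ Subgroup.normalizer (X : Set G) ∧ ∃ x ∈ X, d.z * x ≠ x * d.z}
  obtain ⟨X, hX⟩ := (Set.toFinite 𝒮).exists_minimal
    ⟨OO p M, le_rfl, fun c hc => mem_normalizer_OO (K.C_le hc), K.exists_moved⟩
  obtain ⟨⟨hXF, hXC, x₀, hx₀, hne⟩, hmin⟩ := hX
  have hmin' : ∀ Y ≤ X, d.C ≤ Subgroup.normalizer (Y : Set G) → (∃ y ∈ Y, d.z * y ≠ y * d.z) → Y = X :=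
    fun Y hY hYC hYm => le_antisymm hY (hmin ⟨hY.trans hXF, hYC, hYm⟩ hY)
  refine ⟨X, hXF, hXC, ⟨x₀, hx₀, hne⟩, ?_, hmin'⟩
  set Y := X ⊓ Subgroup.centralizer (OO p d.C : Set G)
  have hYC : d.C ≤ Subgroup.normalizer (Y : Set G) := fun c hc => Subgroup.mem_normalizer_fintype fun y hy => by
    refine ⟨mem_normalizer_of_mem (hXC hc) hy.1, Subgroup.mem_centralizer_iff.2 fun w hw => ?_⟩
    have h1 : Commute (c⁻¹ * w * c) y := Subgroup.mem_centralizer_iff.1 hy.2 _ (by
      simpa using conj_OO (d.C.inv_mem hc) hw)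
    calc w * (c * y * c⁻¹) = c * ((c⁻¹ * w * c) * y) * c⁻¹ := by group
      _ = c * (y * (c⁻¹ * w * c)) * c⁻¹ := by rw [h1.eq]
      _ = c * y * c⁻¹ * w := by group
  by_cases hmv : ∃ y ∈ Y, d.z * y ≠ y * d.z
  · intro x hx w hw
    rw [← hmin' Y inf_le_left hYC hmv] at hx
    exact (Subgroup.mem_centralizer_iff.1 hx.2 w hw).symm
  exfalso
  push Not at hmv
  refine hne (CfsgLib.Stabilizer.thompson_axb (Q := OO p d.C) ((OO_isPGroup p M).to_le hXF) (OO_isPGroup p d.C)
    (fun w hw => hXC (OO_le hw)) ?_ (hXC Frame.Spec.z_mem_C)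
    (fun w hw => (Frame.Spec.z_central (OO_le hw)).symm) (fun y hy => hmv y hy) x₀ hx₀)
  rw [K.spec.zord]
  exact (Nat.coprime_primes Nat.prime_two K.prime).2 (Ne.symm K.ne_two)

variable (hA : Free d p u) (hOD : ¬ ∀ x ∈ d.O, ∀ y ∈ d.D, x * y = y * x)
include hA hOD

/-- `C_F(u) ≤ O_p(C(u))`. -/
theorem LCtx.fixed_u {f : G} (hf : f ∈ OO p M) (hu : f * u = u * f) : f ∈ cj g (OO p d.C) := by
  have hg3 : g * g * g ∈ M := K.C_le T.cube_mem
  have h1 : g⁻¹ * f * g ∈ cj (g * g) (OO p M) := by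
    rw [mem_cj, show (g * g)⁻¹ * (g⁻¹ * f * g) * (g * g) = (g * g * g)⁻¹ * f * (g * g * g) by group]
    simpa using conj_OO (inv_mem hg3) hf
  have h2 : g⁻¹ * f * g ∈ d.C := mem_cent.2 (by
    have := (Commute.conj_iff g⁻¹).2 (show Commute f u from hu)
    rw [inv_inv, T.back_u] at this
    exact this.eq)
  rw [mem_cj]
  exact K.cent_le T.symm (hA.symm T) hOD h1 h2

/-- **The invariant subgroup in the case `O_p(C(U)) = 1`.** -/
theorem LCtx.exists_free : ∃ X : Subgroup G, IsPGroup p (orb g X) ∧ orb g X ≤ M ∧ X ≤ OO p M ∧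
    d.C ≤ Subgroup.normalizer (X : Set G) ∧ ∃ x ∈ X, d.z * x ≠ x * d.z := by
  classical
  haveI := Fact.mk K.prime
  obtain ⟨X, hXF, hXC, hXm, hXW, hmin⟩ := K.exists_min T
  refine ⟨X, ?_, ?_, hXF, hXC, hXm⟩
  all_goals
    have hXp : IsPGroup p X := (OO_isPGroup p M).to_le hXF
    have hXodd := K.odd_of_pgroup hXp
    -- generated by inverted elements
    have hgen : X ≤ Subgroup.closure {x | x ∈ X ∧ d.z * x * d.z⁻¹ = x⁻¹} := by
      set Y := Subgroup.closure {x | x ∈ X ∧ d.z * x * d.z⁻¹ = x⁻¹} with hY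
      have hYX : Y ≤ X := (Subgroup.closure_le _).2 fun x hx => hx.1
      refine (hmin Y hYX (fun c hc => mem_normalizer_of_cj_eq ?_) ?_).ge
      · rw [hY, cj, MonoidHom.map_closure, Subgroup.closure_le]
        rintro _ ⟨x, ⟨hx, hxz⟩, rfl⟩
        refine Subgroup.subset_closure ⟨mem_normalizer_of_mem (hXC hc) hx, ?_⟩
        show d.z * (c * x * c⁻¹) * d.z⁻¹ = (c * x * c⁻¹)⁻¹
        have hcz : Commute c d.z := Frame.Spec.z_central hc
        calc d.z * (c * x * c⁻¹) * d.z⁻¹ = (d.z * c) * x * (c⁻¹ * d.z⁻¹) := by group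
          _ = (c * d.z) * x * (d.z⁻¹ * c⁻¹) := by rw [hcz.eq, hcz.inv_inv.eq]
          _ = c * (d.z * x * d.z⁻¹) * c⁻¹ := by group
          _ = _ := by rw [hxz]; group
      · obtain ⟨x, hx, hne⟩ := hXm
        obtain ⟨a, ha, hap, hai⟩ := exists_inverted hXodd K.spec.zord (hXC Frame.Spec.z_mem_C) hx hne
        refine ⟨a, Subgroup.subset_closure ⟨ha, hai⟩, fun e => ?_⟩
        rw [conj_eq_self e] at hai
        exact hap.ne_one (orderOf_eq_one_iff.2 (eq_one_of_sq hXodd ha (eq_inv_iff_mul_eq_one.1 hai)))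
    have hxc : ∀ {x y : G}, x ∈ X → y ∈ OO p d.C → x * y = y * x := fun hx hy => hXW _ hx _ hy
    -- the parts fixed by `u` and `z u`
    set P₁ := X ⊓ Subgroup.centralizer ({u} : Set G) with hP₁
    set P₂ := X ⊓ Subgroup.centralizer ({d.z * u} : Set G) with hP₂
    have hXgen : X ≤ P₁ ⊔ P₂ := by
      haveI := isKleinFour_four T.zord T.ord T.comm.symm T.ne
      haveI : IsMulCommutative ↥(four d.z u) :=
        ⟨⟨fun a b => Subtype.ext (four_comm T.zord T.ord T.comm.symm T.ne a.2 b.2)⟩⟩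
      have hPX : P₁ ⊔ P₂ ≤ X := sup_le inf_le_left inf_le_left
      have hcov := CfsgLib.coprime_generated_by_centralizers (A := four d.z u) (K := X) IsKleinFour.not_isCyclic
        (four_le (hXC Frame.Spec.z_mem_C) (hXC T.mem)) (by
          rw [IsKleinFour.card_four, show (4 : ℕ) = 2 ^ 2 from rfl]
          exact (Nat.coprime_two_left.2 hXodd).pow_left 2)
      refine hgen.trans ((Subgroup.closure_le _).2 ?_)
      rintro t ⟨ht, htz⟩
      set P₀ := X ⊓ Subgroup.centralizer ({d.z} : Set G) with hP₀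
      have hP₀W : ∀ w ∈ P₀, w ∈ OO p d.C := fun w hw =>
        K.fixed_le_W (hXF hw.1) (mem_cent.2 (mem_cent.1 hw.2))
      have ht' : t ∈ P₀ ⊔ (P₁ ⊔ P₂) := by
        rw [← hcov] at ht
        refine (iSup₂_le fun a ha => ?_ : _ ≤ P₀ ⊔ (P₁ ⊔ P₂)) ht
        rcases (mem_four T.zord T.ord T.comm.symm).1 ha.1 with e | e | e | e
        · exact absurd e ha.2
        · subst e; exact le_sup_left
        · subst e; exact le_sup_left.trans le_sup_right
        · subst e; exact le_sup_right.trans le_sup_right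
      have hle : P₀ ≤ Subgroup.normalizer ((P₁ ⊔ P₂ : Subgroup G) : Set G) := fun w hw => by
        refine Subgroup.mem_normalizer_fintype fun y hy => ?_
        have hyX : y ∈ X := hPX hy
        rw [← hxc hyX (hP₀W w hw), mul_inv_cancel_right]
        exact hy
      rw [sup_comm] at ht'
      obtain ⟨t0, ht0, w, hw, rfl⟩ := CfsgLib.mem_sup_of_le_normalizer hle ht'
      have hzt : d.z * t0 * d.z⁻¹ ∈ P₁ ⊔ P₂ := by
        have hn : d.z ∈ Subgroup.normalizer ((P₁ ⊔ P₂ : Subgroup G) : Set G) := by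
          refine mem_normalizer_of_cj_eq ?_
          rw [cj_sup]
          refine sup_le_sup ?_ ?_
          · rintro _ ⟨y, hy, rfl⟩
            refine ⟨mem_normalizer_of_mem (hXC Frame.Spec.z_mem_C) hy.1, mem_cent.2 ?_⟩
            have := (Commute.conj_iff d.z).2 (show Commute y u from mem_cent.1 hy.2)
            rwa [← T.comm, mul_inv_cancel_right] at this
          · rintro _ ⟨y, hy, rfl⟩
            refine ⟨mem_normalizer_of_mem (hXC Frame.Spec.z_mem_C) hy.1, mem_cent.2 ?_⟩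
            have := (Commute.conj_iff d.z).2 (show Commute y (d.z * u) from mem_cent.1 hy.2)
            rw [show d.z * (d.z * u) * d.z⁻¹ = d.z * u by rw [T.z_zu, invol_inv T.zord, T.comm]] at this
            exact this.eq
        exact mem_normalizer_of_mem hn ht0
      have hwX : w ∈ X := hw.1
      have hww : w * w ∈ P₁ ⊔ P₂ := by
        have hz : d.z * w * d.z⁻¹ = w := conj_eq_self (mem_cent.1 hw.2).symm
        have hc0 : Commute t0 w := hxc (hPX ht0) (hP₀W w hw)
        rw [show d.z * (t0 * w) * d.z⁻¹ = (d.z * t0 * d.z⁻¹) * (d.z * w * d.z⁻¹) by group, hz] at htz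
        have e1 : (d.z * t0 * d.z⁻¹) * w = w * (d.z * t0 * d.z⁻¹) :=
          hxc (hPX hzt) (hP₀W w hw)
        have e2 : w * w = t0⁻¹ * (d.z * t0 * d.z⁻¹)⁻¹ := by
          rw [eq_mul_inv_iff_mul_eq, mul_assoc]
          have h2 : w * (d.z * t0 * d.z⁻¹) = t0⁻¹ * w⁻¹ := by rw [← e1, htz, hc0.eq, mul_inv_rev]
          rw [h2]
          have h3 : Commute t0⁻¹ w := hc0.inv_left
          rw [← mul_assoc, ← h3.eq, mul_inv_cancel_right]
        rw [e2]
        exact mul_mem (inv_mem ht0) (inv_mem hzt)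
      exact mul_mem ht0 (mem_of_sq_mem hXodd hwX hww)
    -- the conjugates commute
    have hW1 : ∀ {f : G}, f ∈ P₁ → f ∈ cj g (OO p d.C) := fun hf =>
      K.fixed_u T hA hOD (hXF hf.1) (mem_cent.1 hf.2)
    have hW2 : ∀ {f : G}, f ∈ P₂ → f ∈ cj (g * g) (OO p d.C) := fun hf =>
      K.fixed_u T.symm (hA.symm T) hOD (hXF hf.1) (mem_cent.1 hf.2)
    have hg3 : cj (g * g * g) X = X := by
      refine le_antisymm ?_ fun x hx => mem_cj.2 (inv_conj_mem (hXC T.cube_mem) hx)
      rintro _ ⟨x, hx, rfl⟩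
      exact mem_normalizer_of_mem (hXC T.cube_mem) hx
    have hXX : cj g X ≤ Subgroup.centralizer (X : Set G) := by
      refine (cj_mono hXgen).trans ?_
      rw [cj_sup]
      refine sup_le ?_ ?_
      all_goals
        rintro _ ⟨q, hq, rfl⟩
        refine Subgroup.mem_centralizer_iff.2 fun y hy => ?_
        have hyP := hXgen hy
      · refine (Subgroup.mem_centralizer_iff.1 ((sup_le ?_ ?_ : P₁ ⊔ P₂ ≤
          Subgroup.centralizer ({g * q * g⁻¹} : Set G)) hyP) _ rfl).symm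
        · intro a ha
          refine mem_cent.2 ?_
          have h1 : Commute (g⁻¹ * a * g) q := (hxc hq.1 (mem_cj.1 (hW1 ha))).symm
          have := (Commute.conj_iff g).2 h1
          simpa [mul_assoc] using this.eq
        · intro a ha
          refine mem_cent.2 ?_
          have h1 : (g * g)⁻¹ * (g * q * g⁻¹) * (g * g) ∈ OO p d.C := by
            have := mem_cj.1 (hW1 hq)
            rwa [show (g * g)⁻¹ * (g * q * g⁻¹) * (g * g) = g⁻¹ * q * g by group]
          have h2 := (Commute.conj_iff (g * g)).2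
            (show Commute ((g * g)⁻¹ * a * (g * g)) ((g * g)⁻¹ * (g * q * g⁻¹) * (g * g)) from
              K.W_comm T hA (mem_cj.1 (hW2 ha)) h1)
          rw [show g * g * ((g * g)⁻¹ * a * (g * g)) * (g * g)⁻¹ = a by group,
            show g * g * ((g * g)⁻¹ * (g * q * g⁻¹) * (g * g)) * (g * g)⁻¹ = g * q * g⁻¹ by group] at h2
          exact h2.eq
      · have h1 : g * q * g⁻¹ ∈ OO p d.C := by
          have h2 := mem_cj.1 (hW2 hq)
          have h3 := conj_OO (T.cube_mem) h2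
          rwa [show g * g * g * ((g * g)⁻¹ * q * (g * g)) * (g * g * g)⁻¹ = g * q * g⁻¹ by group] at h3
        exact hxc hy h1
    have hXX' : cj (g * g) X ≤ Subgroup.centralizer (X : Set G) := by
      intro y hy
      refine Subgroup.mem_centralizer_iff.2 fun x hx => ?_
      rw [← hg3] at hx
      have h1 : (g * g)⁻¹ * x * (g * g) ∈ cj g X := by
        rw [SetLike.mem_coe, mem_cj] at hx
        rw [mem_cj]
        rwa [show g⁻¹ * ((g * g)⁻¹ * x * (g * g)) * g = (g * g * g)⁻¹ * x * (g * g * g) by group]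
      have h2 : Commute ((g * g)⁻¹ * y * (g * g)) ((g * g)⁻¹ * x * (g * g)) :=
        Subgroup.mem_centralizer_iff.1 (hXX h1) _ (mem_cj.1 hy)
      have := (Commute.conj_iff (g * g)).2 h2
      simpa [mul_assoc] using this.eq.symm
    have hne : X ≠ ⊥ := by
      obtain ⟨x, hx, hxz⟩ := hXm
      rintro rfl
      rw [Subgroup.mem_bot] at hx
      exact hxz (by rw [hx, mul_one, one_mul])
  · have hn : ∀ {A B : Subgroup G}, A ≤ Subgroup.centralizer (B : Set G) →
        A ≤ Subgroup.normalizer (B : Set G) := fun {A B} h a ha => Subgroup.mem_normalizer_fintype fun b hb => by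
      rw [← Subgroup.mem_centralizer_iff.1 (h ha) b hb, mul_inv_cancel_right]
      exact hb
    have h12 : cj (g * g) X ≤ Subgroup.centralizer (cj g X : Set G) := by
      rw [← cj_cj]
      rintro _ ⟨a, ha, rfl⟩
      refine Subgroup.mem_centralizer_iff.2 ?_
      rintro _ ⟨b, hb, rfl⟩
      exact ((Commute.conj_iff g).2 (show Commute b a from Subgroup.mem_centralizer_iff.1 (hXX ha) b hb)).eq
    have hs : IsPGroup p (X ⊔ cj g X : Subgroup G) := by
      rw [sup_comm]
      exact (hXp.map (MulAut.conj g).toMonoidHom).to_sup_of_normal_right' hXp (hn hXX)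
    rw [orb, sup_comm]
    refine (hXp.map (MulAut.conj (g * g)).toMonoidHom).to_sup_of_normal_right' hs (hn fun a ha => ?_)
    refine Subgroup.mem_centralizer_iff.2 fun b hb => ?_
    exact ((sup_le (fun b hb => mem_cent.2 (Subgroup.mem_centralizer_iff.1 (hXX' ha) b hb))
      (fun b hb => mem_cent.2 (Subgroup.mem_centralizer_iff.1 (h12 ha) b hb)) :
        X ⊔ cj g X ≤ Subgroup.centralizer ({a} : Set G)) hb |> mem_cent.1)
  · refine sup_le (sup_le (hXF.trans (OO_le)) ?_) ?_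
    all_goals
      refine le_trans ?_ (K.normalizer_le hXodd hne hXC)
      intro a ha
    · exact Subgroup.centralizer_le_normalizer _ (hXX ha)
    · exact Subgroup.centralizer_le_normalizer _ (hXX' ha)

omit hA hOD

/-- **The invariant subgroup.** -/
theorem LCtx.exists_invariant (hU : ∀ x ∈ d.U, x = 1 ∨ x = d.z ∨ x = u ∨ x = d.z * u) (huU : u ∈ d.U)
    (hOD : ¬ ∀ x ∈ d.O, ∀ y ∈ d.D, x * y = y * x) :
    ∃ B : Subgroup G, B ≠ ⊥ ∧ B ≤ M ∧ IsPGroup p B ∧
      Subgroup.normalizer (d.U : Set G) ≤ Subgroup.normalizer (B : Set G) ∧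
      ∃ f ∈ OO p M, f ∈ Subgroup.normalizer (B : Set G) ∧ d.z * f ≠ f * d.z := by
  haveI := Fact.mk K.prime
  have hzU : d.z ∈ d.U := K.spec.zU
  have hperm : ∀ n ∈ Subgroup.normalizer (d.U : Set G), ∀ v, v = d.z ∨ v = u ∨ v = d.z * u →
      n * v * n⁻¹ = d.z ∨ n * v * n⁻¹ = u ∨ n * v * n⁻¹ = d.z * u := by
    intro n hn v hv
    have hvU : v ∈ d.U := by
      rcases hv with rfl | rfl | rfl
      exacts [hzU, huU, mul_mem hzU huU]
    have hv1 : v ≠ 1 := by
      rcases hv with rfl | rfl | rfl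
      exacts [ne_one_of_invol T.zord, ne_one_of_invol T.ord, ne_one_of_invol T.zu_ord]
    exact (hU _ (mem_normalizer_of_mem hn hvU)).resolve_left fun e => hv1 (conj_eq_one_iff.1 e)
  by_cases hA : Free d p u
  · obtain ⟨X, hXp, hXM, hXF, hXC, x, hx, hxz⟩ := K.exists_free T hA hOD
    refine ⟨orb g X, fun e => ?_, hXM, hXp, fun n hn => T.mem_normalizer_orb hXC (hperm n hn),
      x, hXF hx, Subgroup.le_normalizer ((le_sup_left.trans le_sup_left : X ≤ orb g X) hx), hxz⟩
    have : x ∈ orb g X := (le_sup_left.trans le_sup_left : X ≤ orb g X) hx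
    rw [e, Subgroup.mem_bot] at this
    exact hxz (by rw [this, mul_one, one_mul])
  set Z := d.C ⊓ Subgroup.centralizer ({u} : Set G) with hZ
  have hBC : OO p Z ≤ d.C := OO_le.trans inf_le_left
  refine ⟨OO p Z, hA, hBC.trans K.C_le, OO_isPGroup p Z, fun n hn => ?_, ?_⟩
  · refine mem_normalizer_OO_of_normalizer (Subgroup.mem_normalizer_fintype fun a ha => ?_)
    have key : ∀ v, v = d.z ∨ v = u ∨ v = d.z * u → Commute (n * a * n⁻¹) (n * v * n⁻¹) := fun v hv => by
      refine (Commute.conj_iff n).2 ?_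
      rcases hv with rfl | rfl | rfl
      exacts [Frame.Spec.z_central ha.1, (mem_cent.1 ha.2),
        (show Commute a d.z from Frame.Spec.z_central ha.1).mul_right (mem_cent.1 ha.2)]
    have hget : ∀ w, w = d.z ∨ w = u ∨ w = d.z * u → Commute (n * a * n⁻¹) w := fun w hw => by
      have h1 := hperm n⁻¹ ((Subgroup.normalizer (d.U : Set G)).inv_mem hn) w hw
      rw [inv_inv] at h1
      have := key _ h1
      rwa [show n * (n⁻¹ * w * n) * n⁻¹ = w by group] at this
    exact ⟨mem_cent.2 (hget _ (Or.inl rfl)).eq, mem_cent.2 (hget _ (Or.inr (Or.inl rfl))).eq⟩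
  · by_contra hno
    push Not at hno
    obtain ⟨f, hf, hne⟩ := K.exists_moved
    refine hne (CfsgLib.Stabilizer.thompson_axb (R := OO p M) (Q := OO p Z) (OO_isPGroup p M) (OO_isPGroup p Z)
      (fun b hb => mem_normalizer_OO (K.C_le (hBC hb))) ?_ (mem_normalizer_OO K.z_mem)
      (fun b hb => (Frame.Spec.z_central (hBC hb)).symm) (fun r hr => ?_) f hf)
    · rw [T.zord]
      exact (Nat.coprime_primes Nat.prime_two K.prime).2 (Ne.symm K.ne_two)
    · exact hno r hr.1 (Subgroup.centralizer_le_normalizer _ hr.2)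

end CfsgLib.RankTwoModel
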