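import Cfsg.Agent.Lib.RankTwoModel.Invol
import Cfsg.Agent.Lib.QThree.Section
import Cfsg.Agent.Lib.QThree.CoreKernel
import Cfsg.Agent.Lib.BrauerOrder.Automizer
import Cfsg.Agent.Lib.BrauerOrder.Main
import Cfsg.Agent.Lib.Chev.Aut.FieldCyclic

/-!
A small field with a torus at the non-central involution that is a `2`-group: the core of the centraliser is trivial.

* `mem_core_u`: an element of odd order of `C` commuting with `u` is in the core;
* `core_eq_bot`: balance as for `q = 3` (`Lib/QThree`), and the wreathed degree `Q ^ 2 + Q + 1 < |S|`.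

Blueprint: `blueprint/RankTwo_L5.md`, section F (the exceptions).
-/

set_option autoImplicit false
set_option linter.unusedSectionVars false
set_option linter.style.haveILetI false

namespace CfsgLib.RankTwoModel.SmallTorus

open Cfsg CfsgLib.BG CfsgLib.GW CfsgLib.CharTheory CfsgLib.Blocks CfsgLib.BrauerOrder CfsgLib.QThree
open scoped MatrixGroups

universe u v

/-- A `2`-element of order more than the square root of the group cannot be moved by an automorphism fixing only `1`. -/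
theorem no_big {T : Type v} [Group T] [Finite T] (r : T ≃* T) (hfree : ∀ t, r t = t → t = 1) {k : ℕ}
    (hk : Nat.card T = k * k) {t : T} {i : ℕ} (ht : orderOf t = 2 ^ i) (hbig : k < 2 ^ i) : False := by
  have hu : ∀ {s x : T} {i : ℕ}, orderOf s = 2 ^ (i + 1) → x ∈ Subgroup.zpowers s → x * x = 1 → x ≠ 1 →
      x = s ^ 2 ^ i := by
    intro s x i hs hx hxx hx1
    classical
    obtain ⟨m, hm, rfl⟩ := Finset.mem_image.mp ((mem_zpowers_iff_mem_range_orderOf).mp hx)
    rw [Finset.mem_range, hs, pow_succ] at hm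
    rw [← pow_add, ← orderOf_dvd_iff_pow_eq_one, hs, pow_succ] at hxx
    obtain ⟨c, hc⟩ := hxx
    rcases c with _ | _ | c
    · exact absurd (show s ^ m = 1 by rw [show m = 0 by omega, pow_zero]) hx1
    · congr 1; omega
    · nlinarith
  obtain ⟨i, rfl⟩ : ∃ j, i = j + 1 := by
    refine Nat.exists_eq_succ_of_ne_zero fun e => ?_
    subst e
    have : 0 < k * k := hk ▸ Nat.card_pos
    have := Nat.pos_of_mul_pos_left this
    simp at hbig
    omega
  have hrt : orderOf (r t) = 2 ^ (i + 1) := (MulEquiv.orderOf_eq r t).trans ht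
  set A := Subgroup.zpowers t
  set B := Subgroup.zpowers (r t)
  have hne : A ⊓ B ≠ ⊥ := fun e => by
    have h1 := B.card_mul_index
    rw [Nat.card_zpowers, hrt, hk] at h1
    have h2 : B.relIndex A = 2 ^ (i + 1) := by
      rw [← Subgroup.inf_relIndex_left A B, e, Subgroup.relIndex_bot_left, Nat.card_zpowers, ht]
    have h3 : B.relIndex A ≤ B.index := by
      rw [← Subgroup.relIndex_top_right]
      exact Subgroup.relIndex_le_of_le_right le_top (by rw [Subgroup.relIndex_top_right]; exact B.index_ne_zero_of_finite)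
    rw [h2] at h3
    nlinarith
  obtain ⟨x, hx, hx1⟩ := (A ⊓ B).bot_or_exists_ne_one.resolve_left hne
  obtain ⟨j, hj, hxo⟩ := (Nat.dvd_prime_pow Nat.prime_two).mp
    (ht ▸ orderOf_dvd_of_mem_zpowers hx.1 : orderOf x ∣ 2 ^ (i + 1))
  obtain ⟨j, rfl⟩ : ∃ j', j = j' + 1 := Nat.exists_eq_succ_of_ne_zero fun e => hx1 (by
    subst e; exact orderOf_eq_one_iff.mp (hxo.trans (pow_zero 2)))
  set y := x ^ 2 ^ j
  have hy2 : y * y = 1 := by rw [← pow_add, ← two_mul, ← pow_succ', ← hxo, pow_orderOf_eq_one]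
  have hy1 : y ≠ 1 := fun e => by
    have := Nat.le_of_dvd (Nat.two_pow_pos j) (orderOf_dvd_of_pow_eq_one e)
    rw [hxo, pow_succ] at this
    have := Nat.two_pow_pos j
    omega
  have e1 := hu ht (pow_mem hx.1 _ : y ∈ A) hy2 hy1
  have e2 := hu hrt (pow_mem hx.2 _ : y ∈ B) hy2 hy1
  exact hy1 (hfree y ((congrArg r e1).trans ((map_pow r t _).trans e2.symm)))

variable {G : Type u} [Group G] [Finite G] {d : Frame G} (h : Hyp G) (hd : d.Spec) (hq : 3 < d.q) (R : Rep d)
  {u : G} (huC : u ∈ d.C) (hu : orderOf u = 2) (huz : u ≠ d.z)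
  {g : GL (Fin 2) d.F} (hσ : ∀ A : SL(2, d.F), (R.σ ⟨u, huC⟩ A).1 = g.1 * A.1 * (g⁻¹).1)
  {b : SL(2, d.F)} (hb : b.1.trace ^ 2 ≠ 4) (hbc : ∀ A : SL(2, d.F), A ∈ Subgroup.centralizer ({b} : Set SL(2, d.F)) ↔
    Commute A.1 g.1) (hn : d.n ≤ 2) {i₀ : ℕ} (hcard : Nat.card (Subgroup.centralizer ({b} : Set SL(2, d.F))) = 2 ^ i₀)

include hσ hbc in
theorem fixed_iff (A : SL(2, d.F)) : R.σ ⟨u, huC⟩ A = A ↔ A ∈ Subgroup.centralizer ({b} : Set SL(2, d.F)) := by
  rw [hbc]
  constructor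
  · intro e
    have h1 := congrArg (fun X : SL(2, d.F) => X.1 * g.1) e
    simp only [hσ, Matrix.mul_assoc] at h1
    rw [← Units.val_mul, inv_mul_cancel, Units.val_one, mul_one] at h1
    exact h1.symm
  · intro e
    refine Subtype.ext ?_
    rw [hσ, ← e.eq, Matrix.mul_assoc, ← Units.val_mul, mul_inv_cancel, Units.val_one, mul_one]

include h hd hq hu huz hσ hb hbc hn hcard

/-- An element of odd order commuting with `u` is in the core. -/
theorem mem_core_u {c : G} (hc : c ∈ d.C) (ho : Odd (orderOf c)) (hcu : Commute c u) : c ∈ d.O := by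
  haveI : Fact d.p.Prime := ⟨hd.prime⟩
  haveI := hd.charP
  refine R.sigma_eq_one hd hq h hc ho ?_
  set φ := R.σ ⟨c, hc⟩ with hφ
  set N := orderOf c with hN
  have hφN : φ ^ N = 1 := by
    rw [hφ, ← map_pow, show (⟨c, hc⟩ : ↥d.C) ^ N = 1 from Subtype.ext (pow_orderOf_eq_one c), map_one]
  have hcop : ∀ {j : ℕ}, N.Coprime (2 ^ j) := fun {j} => (Nat.coprime_two_right.mpr ho).pow_right j
  -- no field part
  obtain ⟨g', e, hge⟩ := SL2.exists_semi d.p (hd.three_lt hq) φ
  have he : e = RingEquiv.refl d.F := by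
    set E : RingAut d.F := PSL2.fieldPart d.p (PSL2.centreQuotAut SL(2, d.F) φ) with hEdef
    have h1 : E ^ N = 1 := by rw [hEdef, ← map_pow, ← map_pow, hφN, map_one, map_one]
    have h2 := orderOf_dvd_natCard E
    rw [(CfsgLib.Chev.ringAut_cyclic_card d.p (by rw [Nat.card_eq_fintype_card, hd.card])).2] at h2
    have h3 : orderOf E = 1 := by
      refine Nat.eq_one_of_dvd_coprimes ?_ (orderOf_dvd_of_pow_eq_one h1) h2
      rcases (show d.n = 1 ∨ d.n = 2 by have := hd.npos; omega) with e | e <;> rw [e]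
      · exact Nat.coprime_one_right N
      · exact Nat.coprime_two_right.mpr ho
    rw [← SL2.fieldPart_toPSL d.p hge]
    exact orderOf_eq_one_iff.mp h3
  have hge' : ∀ A : SL(2, d.F), (φ A).1 = g'.1 * A.1 * (g'⁻¹).1 := fun A => by
    rw [hge, he]; rfl
  set Cb := Subgroup.centralizer ({b} : Set SL(2, d.F)) with hCb
  -- it acts trivially on the torus
  have hCbφ : ∀ A ∈ Cb, φ A ∈ Cb := by
    intro A hA
    rw [← fixed_iff R huC hσ hbc] at hA ⊢
    rw [hφ, ← MulAut.mul_apply, ← map_mul,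
      show (⟨u, huC⟩ : ↥d.C) * ⟨c, hc⟩ = ⟨c, hc⟩ * ⟨u, huC⟩ from Subtype.ext hcu.eq.symm, map_mul,
      MulAut.mul_apply, hA]
  obtain ⟨hcyc, -⟩ := SL2Tori.isCyclic_centralizer (x := b) hb
  let r : MulAut Cb := MulEquiv.ofBijective
    (MonoidHom.mk' (fun A : Cb => (⟨φ A, hCbφ A A.2⟩ : Cb)) fun A B => Subtype.ext (map_mul φ (A : SL(2, d.F)) B))
    (Finite.injective_iff_bijective.mp fun A B e => Subtype.ext (φ.injective (congrArg Subtype.val e)))
  have hrpow : ∀ (k : ℕ) (A : Cb), ((r ^ k) A : SL(2, d.F)) = (φ ^ k) A := by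
    intro k
    induction k with
    | zero => intro A; rfl
    | succ k ih => intro A; rw [pow_succ', pow_succ', MulAut.mul_apply, MulAut.mul_apply, ← ih]; rfl
  have hr : r = 1 := by
    have h1 : r ^ N = 1 := MulEquiv.ext fun A => Subtype.ext (by rw [hrpow, hφN]; rfl)
    have h2 := orderOf_dvd_natCard r
    rw [IsCyclic.card_mulAut, hcard] at h2
    refine orderOf_eq_one_iff.mp (Nat.eq_one_of_dvd_coprimes (hcop (j := i₀ - 1)) (orderOf_dvd_of_pow_eq_one h1) ?_)
    rcases i₀ with _ | j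
    · simpa using h2
    · rw [Nat.totient_prime_pow Nat.prime_two (Nat.succ_pos j)] at h2
      simpa using h2
  have hgb : Commute g'.1 b.1 := by
    have h1 : φ b = b := congrArg Subtype.val
      (MulEquiv.congr_fun hr ⟨b, Subgroup.mem_centralizer_singleton_iff.mpr rfl⟩)
    have h2 := congrArg (fun X : SL(2, d.F) => X.1 * g'.1) h1
    simp only [hge', Matrix.mul_assoc] at h2
    rw [← Units.val_mul, inv_mul_cancel, Units.val_one, mul_one] at h2
    exact h2
  -- its square is conjugation by an element of the torus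
  have hdet : g'.1.det ≠ 0 := GW.Model.det_ne g'
  obtain ⟨A, hA⟩ : ∃ A : SL(2, d.F), A.1 = g'.1.det⁻¹ • (g'.1 * g'.1) := ⟨⟨_, by
    rw [Matrix.det_smul, Matrix.det_mul, Fintype.card_fin]; field_simp⟩, rfl⟩
  have hAC : A ∈ Cb := by
    rw [hCb, SL2Tori.mem_centralizer]
    refine Subtype.ext ?_
    show A.1 * b.1 = b.1 * A.1
    rw [hA]
    exact ((hgb.mul_left hgb).smul_left _).eq
  have hsq : φ * φ = MulAut.conj A := by
    refine MulEquiv.ext fun X => ?_
    have key : φ (φ X) * A = A * X := Subtype.ext (by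
      show (φ (φ X)).1 * A.1 = A.1 * X.1
      rw [hge', hge', hA, Matrix.mul_smul, Matrix.smul_mul]
      congr 1
      simp [Matrix.mul_assoc])
    rw [MulAut.mul_apply, MulAut.conj_apply, ← key, mul_inv_cancel_right]
  have h16 : φ ^ (2 ^ (i₀ + 1)) = 1 := by
    rw [pow_succ', pow_mul, pow_two, hsq, ← map_pow]
    have h1 : A ^ 2 ^ i₀ = 1 := by
      have h2 := Subgroup.orderOf_dvd_natCard Cb hAC
      rw [hcard] at h2
      exact orderOf_dvd_iff_pow_eq_one.mp h2
    rw [h1, map_one]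
  exact orderOf_eq_one_iff.mp (Nat.eq_one_of_dvd_coprimes hcop (orderOf_dvd_of_pow_eq_one hφN)
    (orderOf_dvd_of_pow_eq_one h16))

omit hu huz hσ hb hbc hn hcard

/-- All non-central involutions of `C` are conjugate in `C`. -/
theorem conj_invol {y y' : G} (hy : orderOf y = 2) (hyC : y ∈ d.C) (hyne : y ≠ d.z) (hy' : orderOf y' = 2)
    (hy'C : y' ∈ d.C) (hy'ne : y' ≠ d.z) : ∃ c ∈ d.C, c * y * c⁻¹ = y' := by
  classical
  haveI := h.simple
  letI := Fintype.ofFinite G
  letI : Fintype ↥(Subgroup.centralizer ({d.z} : Set G)) := Fintype.ofFinite _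
  obtain ⟨Ω, _, D, hD, -, -, -, -⟩ := hd.exists_sys h
  haveI : Finite Ω := Nat.finite_of_card_ne_zero (by rw [hD.core.card]; omega)
  have key : ∀ x : G, orderOf x = 2 → x ∈ d.C → x ≠ d.z → ∃ c ∈ d.C, c * x * c⁻¹ = (D.w : G) := by
    intro x hx hxC hxne
    set xC : Cz d.z := ⟨x, hxC⟩
    have hxo : orderOf xC = 2 := (Subgroup.orderOf_mk x hxC).trans hx
    obtain ⟨t, hxt, htT⟩ := hD.core.exh xC ⟨1, hxo⟩
    obtain ⟨c, hc⟩ := isConj_iff.mp hxt
    have hto : orderOf t = 2 := by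
      rw [← hc, show c * xC * c⁻¹ = MulAut.conj c xC from rfl, MulEquiv.orderOf_eq]; exact hxo
    have htt : t * t = 1 := by rw [← pow_two, ← hto, pow_orderOf_eq_one]
    have ht1 : t ≠ 1 := fun e => by rw [e, orderOf_one] at hto; exact absurd hto (by norm_num)
    have htz : t ≠ D.zc := fun e => hxne (by
      have h1 : ((c * xC * c⁻¹ : Cz d.z) : G) = d.z := by rw [hc, e, hD.zcv]
      have h2 : (c : G) * x * (c : G)⁻¹ = (c : G) * d.z * (c : G)⁻¹ := by
        rw [show (c : G) * x * (c : G)⁻¹ = d.z from h1, Frame.Spec.z_central c.2, mul_inv_cancel_right]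
      exact mul_left_cancel (mul_right_cancel h2))
    have hT1 : t ∈ D.core.T true := by
      rcases htT with hm | hm | hm
      · exact ((hD.zonly t hm htt).elim ht1 htz).elim
      · obtain ⟨i, hi⟩ := hD.powN t hm ht1
        refine (htz ?_).elim
        rcases Nat.even_or_odd i with ⟨j, hj⟩ | ⟨j, hj⟩
        · exfalso
          rw [hj, ← two_mul, pow_mul, pow_two, htt, one_pow] at hi
          have := congrArg Subtype.val hi
          rw [hD.zcv, OneMemClass.coe_one] at this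
          exact ne_one_of_invol hd.zord this.symm
        · rwa [hj, pow_succ, pow_mul, pow_two, htt, one_pow, one_mul] at hi
      · exact hm
    rcases hD.invU t hT1 htt with e | e | e | e
    · exact absurd e ht1
    · exact absurd e htz
    · exact ⟨c, c.2, by rw [← e, ← hc]; rfl⟩
    · refine ⟨(D.core.n true * c : Cz d.z), (D.core.n true * c : Cz d.z).2, ?_⟩
      have h1 : D.core.n true * c * xC * (D.core.n true * c)⁻¹ = D.w := by
        rw [show D.core.n true * c * xC * (D.core.n true * c)⁻¹ = D.core.n true * (c * xC * c⁻¹) * (D.core.n true)⁻¹ by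
          group, hc, e]
        have hz : D.core.n true * D.zc * (D.core.n true)⁻¹ = D.zc := Subtype.ext (by
          show (D.core.n true : G) * (D.zc : G) * (D.core.n true : G)⁻¹ = (D.zc : G)
          rw [hD.zcv, Frame.Spec.z_central (D.core.n true).2, mul_inv_cancel_right])
        rw [show D.core.n true * (D.zc * D.w) * (D.core.n true)⁻¹ =
          (D.core.n true * D.zc * (D.core.n true)⁻¹) * (D.core.n true * D.w * (D.core.n true)⁻¹) by group, hz, hD.nw,
          ← mul_assoc]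
        have hzz : D.zc * D.zc = 1 := Subtype.ext (by
          show (D.zc : G) * (D.zc : G) = 1
          rw [hD.zcv]; exact invol_mul_self hd.zord)
        rw [hzz, one_mul]
      exact congrArg Subtype.val h1
  obtain ⟨c, hc, e⟩ := key y hy hyC hyne
  obtain ⟨c', hc', e'⟩ := key y' hy' hy'C hy'ne
  exact ⟨c'⁻¹ * c, mul_mem (inv_mem hc') hc, by
    rw [show c'⁻¹ * c * y * (c'⁻¹ * c)⁻¹ = c'⁻¹ * (c * y * c⁻¹) * c' by group, e, ← e']; group⟩

include hu huz hσ hb hbc hn hcard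

/-- An element of odd order of the centraliser of `t` commuting with a second involution is in the core. -/
theorem mem_coreC {c t y : G} (hc : Commute c t) (ho : Odd (orderOf c)) (ht : orderOf t = 2) (hy : orderOf y = 2)
    (hyt : Commute y t) (hne : y ≠ t) (hcy : Commute c y) : c ∈ CfsgLib.GW.coreC t := by
  obtain ⟨a, ha⟩ := isConj_iff.mp (h.all_conj t d.z ht hd.zord)
  have hconj : ∀ {x w : G}, Commute x w → Commute (a * x * a⁻¹) (a * w * a⁻¹) := fun hxw => (Commute.conj_iff a).2 hxw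
  have hyC : a * y * a⁻¹ ∈ d.C := Subgroup.mem_centralizer_singleton_iff.mpr (ha ▸ (hconj hyt).eq)
  obtain ⟨e, he, heu⟩ := conj_invol h hd (hq := hq) ((orderOf_cj a y).trans hy) hyC
    (fun e => hne (mul_left_cancel (mul_right_cancel (e.trans ha.symm)))) hu huC huz
  have hcC : a * c * a⁻¹ ∈ d.C := Subgroup.mem_centralizer_singleton_iff.mpr (ha ▸ (hconj hc).eq)
  have h1 : e * (a * c * a⁻¹) * e⁻¹ ∈ d.O := mem_core_u h hd hq R huC hu huz hσ hb hbc hn hcard
    (mul_mem (mul_mem he hcC) (inv_mem he)) (by rw [orderOf_cj, orderOf_cj]; exact ho)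
    (heu ▸ (Commute.conj_iff e).2 (hconj hcy))
  have h2 := Frame.Spec.O_conj (inv_mem he) h1
  rw [show e⁻¹ * (e * (a * c * a⁻¹) * e⁻¹) * e⁻¹⁻¹ = a * c * a⁻¹ by group] at h2
  -- transport the core back
  obtain ⟨w, hw, hwe⟩ := h2
  have hmap : ∀ x ∈ Subgroup.centralizer ({t} : Set G), a * x * a⁻¹ ∈ Subgroup.centralizer ({d.z} : Set G) :=
    fun x hx => Subgroup.mem_centralizer_singleton_iff.mpr
      (ha ▸ (hconj (show Commute x t from Subgroup.mem_centralizer_singleton_iff.mp hx)).eq)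
  let E : ↥(Subgroup.centralizer ({t} : Set G)) →* ↥(Subgroup.centralizer ({d.z} : Set G)) :=
    MonoidHom.mk' (fun x => ⟨a * x * a⁻¹, hmap x x.2⟩) fun x x' => Subtype.ext (by
      show a * ((x : G) * x') * a⁻¹ = a * x * a⁻¹ * (a * x' * a⁻¹); group)
  have hE : Function.Injective E := fun x x' e' => Subtype.ext
    (mul_left_cancel (mul_right_cancel (congrArg Subtype.val e')))
  refine ⟨⟨c, Subgroup.mem_centralizer_singleton_iff.mpr hc.eq⟩, CfsgLib.le_oddCore (N := (oddCore _).comap E)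
    (CfsgLib.odd_card_oddCore.of_dvd_nat (Subgroup.card_comap_dvd_of_injective _ E hE)) ?_, rfl⟩
  show E _ ∈ oddCore _
  have e' : E ⟨c, Subgroup.mem_centralizer_singleton_iff.mpr hc.eq⟩ = w := Subtype.ext hwe.symm
  rw [e']
  exact hw

/-- **Balance at every `2`-element of the centraliser.** -/
theorem balance {s : G} {k : ℕ} (hk : orderOf s = 2 ^ (k + 1)) (hs : s ∈ d.C) {v : G} (hv : v ∈ d.O)
    (hsv : Commute s v) : v ∈ CfsgLib.GW.coreC s := by
  classical
  set Cs := Subgroup.centralizer ({s} : Set G) with hCs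
  set y := s ^ 2 ^ k with hy
  have hyo : orderOf y = 2 := by
    rw [hy, orderOf_pow_of_dvd (by positivity) (hk ▸ Nat.pow_dvd_pow 2 (Nat.le_succ k)), hk, pow_succ,
      Nat.mul_div_cancel_left _ (by positivity)]
  have key : v ∈ CfsgLib.GW.coreC y → v ∈ CfsgLib.GW.coreC s := by
    intro hvy
    have hle : Cs ≤ Subgroup.centralizer ({y} : Set G) := fun x hx =>
      Subgroup.mem_centralizer_singleton_iff.mpr ((show Commute x s from
        Subgroup.mem_centralizer_singleton_iff.mp hx).pow_right _).eq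
    let ι := Subgroup.inclusion hle
    have hN := CfsgLib.le_oddCore (N := (oddCore ↥(Subgroup.centralizer ({y} : Set G))).comap ι)
      (CfsgLib.odd_card_oddCore.of_dvd_nat
        (Subgroup.card_comap_dvd_of_injective _ ι (Subgroup.inclusion_injective hle)))
    obtain ⟨w, hw, hwv⟩ := hvy
    refine ⟨⟨v, Subgroup.mem_centralizer_singleton_iff.mpr hsv.eq.symm⟩, hN ?_, rfl⟩
    show ι _ ∈ oddCore _
    have e' : ι ⟨v, Subgroup.mem_centralizer_singleton_iff.mpr hsv.eq.symm⟩ = w := Subtype.ext hwv.symm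
    rw [e']
    exact hw
  refine key ?_
  by_cases hyz : y = d.z
  · rw [hyz]; exact hv
  exact mem_coreC h hd hq R huC hu huz hσ hb hbc hn hcard (hsv.symm.pow_right _)
    (d.O_odd.of_dvd_nat (d.O.orderOf_dvd_natCard hv)) hyo hd.zord
    ((show Commute s d.z from Frame.Spec.z_central hs).pow_left _).symm (Ne.symm hyz)
    (Frame.Spec.z_central (d.O_le hv))

/-- Principal block characters are constant on `s O`. -/
theorem const_coset [Fintype G] {M : Ideal AlgInt} (hM : IsPModular 2 M) {χ : IrrCharacter G}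
    (hχ : χ ∈ principalBlock M G) {s : G} (hs : s ∈ (d.S : Subgroup G)) (hs1 : s ≠ 1) {o : G} (ho : o ∈ d.O) :
    (χ : G → ℂ) (s * o) = (χ : G → ℂ) s := by
  obtain ⟨k, hk⟩ := IsPGroup.iff_orderOf.mp d.S.2 ⟨s, hs⟩
  rw [Subgroup.orderOf_mk] at hk
  obtain ⟨k, rfl⟩ : ∃ j, k = j + 1 := by
    refine Nat.exists_eq_succ_of_ne_zero fun e => hs1 ?_
    rw [e, pow_zero] at hk
    exact orderOf_eq_one_iff.mp hk
  have hsC : s ∈ d.C := Subgroup.mem_centralizer_singleton_iff.mpr (hd.zc s hs)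
  refine const_on_coset hM hχ ⟨k + 1, hk⟩ d.O_odd ?_
    (fun v hv hsv => balance h hd hq R huC hu huz hσ hb hbc hn hcard hk hsC hv hsv) ho
  exact Subgroup.mem_normalizer_fintype fun x hx => Frame.Spec.O_conj hsC hx

omit hn in
/-- The central part of the Sylow subgroup is at least the torus. -/
theorem torus_le [Fintype G] [Fintype ↥(Subgroup.centralizer ({d.z} : Set G))] {Ω : Type u}
    [MulAction ↥(Subgroup.centralizer ({d.z} : Set G)) Ω] [Finite Ω] {D : Sys G d.z} (hD : D.Spec Ω) :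
    2 ^ i₀ ≤ Nat.card D.core.Z := by
  classical
  by_contra hlt
  rw [not_le] at hlt
  obtain ⟨hcyc, -⟩ := SL2Tori.isCyclic_centralizer (x := b) hb
  obtain ⟨⟨A, hA⟩, hAgen⟩ := IsCyclic.exists_generator (α := Subgroup.centralizer ({b} : Set SL(2, d.F)))
  have hAo : orderOf A = 2 ^ i₀ := by
    rw [← hcard, ← orderOf_eq_card_of_forall_mem_zpowers hAgen, Subgroup.orderOf_mk]
  obtain ⟨y, hy, hyA, hyu⟩ := R.lift_fixed hd hq huC (invol_mul_self hu) ((fixed_iff R huC hσ hbc A).mpr hA)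
  -- the `2`-part
  obtain ⟨a, m, hm, hym⟩ := Nat.exists_eq_two_pow_mul_odd (orderOf_pos y).ne'
  set t := (⟨y, hy⟩ : ↥d.L) ^ m with ht
  have hto : orderOf (t : G) = 2 ^ a := by
    rw [ht, SubmonoidClass.coe_pow, orderOf_pow_of_dvd hm.pos.ne' (hym ▸ dvd_mul_left m _), hym,
      Nat.mul_div_cancel _ hm.pos]
  have hi : 2 ^ i₀ ≤ 2 ^ a := by
    have h1 : orderOf (R.π t) = 2 ^ i₀ := by
      rw [ht, map_pow, hyA, orderOf_pow' _ hm.pos.ne', hAo, Nat.Coprime.gcd_eq_one
        ((Nat.coprime_two_left.mpr hm).pow_left i₀), Nat.div_one]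
    have h2 := orderOf_map_dvd R.π t
    rw [h1, ← Subgroup.orderOf_coe, hto] at h2
    exact Nat.le_of_dvd (Nat.two_pow_pos a) h2
  obtain ⟨e, he, heu⟩ := conj_invol h hd (hq := hq) hu huC huz
    (show orderOf (D.w : G) = 2 from orderOf_eq_prime (by rw [pow_two]; exact congrArg Subtype.val hD.wsq)
      (fun e => hD.wZ (by rw [show D.w = 1 from Subtype.ext e]; exact one_mem _)))
    D.w.2 (fun e => hD.wZ (by rw [show D.w = D.zc from Subtype.ext (e.trans hD.zcv.symm)]; exact hD.zcZ))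
  set x : G := e * (t : G) * e⁻¹ with hx
  have hxC : x ∈ d.C := mul_mem (mul_mem he (d.L_le t.2)) (inv_mem he)
  have hxw : Commute x (D.w : G) := heu ▸ (Commute.conj_iff e).2 (by
    rw [ht, SubmonoidClass.coe_pow]; exact (show Commute y u from hyu).pow_left m)
  -- it maps injectively to the torus of the data
  set Cw := Subgroup.centralizer ({D.w} : Set (Cz d.z)) with hCw
  obtain ⟨K, hKn, hK2, hKidx⟩ := hD.core.cent true D.w hD.wT hD.wZ
  haveI := hKn
  set xw : Cw := ⟨⟨x, hxC⟩, Subgroup.mem_centralizer_singleton_iff.mpr (Subtype.ext hxw.eq)⟩ with hxw'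
  let ι : ↥(D.core.T true) →* Cw := Subgroup.inclusion fun s hs =>
    Subgroup.mem_centralizer_singleton_iff.mpr (hD.core.tcomm true s hs D.w hD.wT)
  let f := (QuotientGroup.mk' K).comp ι
  have hKodd : Odd (Nat.card K) := Nat.not_even_iff_odd.mp fun he => hK2 (even_iff_two_dvd.mp he)
  have htwoK : ∀ (z' : Cw) (j : ℕ), orderOf z' = 2 ^ j → (z' : Cw ⧸ K) = 1 → z' = 1 := fun z' j hj hz => by
    refine orderOf_eq_one_iff.mp (Nat.eq_one_of_dvd_coprimes ((Nat.coprime_two_left.mpr hKodd).pow_left j)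
      (dvd_of_eq hj) (Subgroup.orderOf_dvd_natCard K ((QuotientGroup.eq_one_iff z').mp hz)))
  have hf : Function.Injective f := (injective_iff_map_eq_one f).mpr fun s hs => by
    obtain ⟨j, hj⟩ := two_of_mem hD.core s.2
    have := htwoK (ι s) j (by rw [← Subgroup.orderOf_coe]; exact hj) hs
    exact Subgroup.inclusion_injective _ (this.trans (map_one ι).symm)
  have hbij : Function.Bijective f := (Nat.bijective_iff_injective_and_card f).mpr ⟨hf, by
    rw [← Subgroup.index_eq_card, hKidx]⟩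
  obtain ⟨s, hs⟩ := hbij.2 (QuotientGroup.mk' K xw)
  have hxo : orderOf xw = 2 ^ a := by
    rw [← Subgroup.orderOf_coe, ← Subgroup.orderOf_coe, hxw']
    show orderOf x = _
    rw [hx, orderOf_cj, hto]
  have hso : orderOf s = 2 ^ a := by
    rw [← orderOf_injective f hf s, hs]
    obtain ⟨j, hj, hjo⟩ := (Nat.dvd_prime_pow Nat.prime_two).mp (hxo ▸ orderOf_map_dvd (QuotientGroup.mk' K) xw)
    rw [hjo]
    refine le_antisymm (Nat.pow_le_pow_right two_pos hj) (Nat.le_of_dvd (Nat.two_pow_pos j) ?_)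
    rw [← hxo]
    refine orderOf_dvd_of_pow_eq_one (htwoK _ (a - j) ?_ ?_)
    · rw [orderOf_pow_of_dvd (Nat.two_pow_pos j).ne' (hxo ▸ Nat.pow_dvd_pow 2 hj), hxo, Nat.pow_div hj two_pos]
    · rw [← hjo]
      exact (map_pow (QuotientGroup.mk' K) xw _).trans (pow_orderOf_eq_one _)
  obtain ⟨r, g₀, hr⟩ := exists_auto hD
  exact no_big r hr.free (hD.cardU.trans (pow_two _)) hso (lt_of_lt_of_le hlt hi)

/-- **The core is trivial.** -/
theorem core_eq_bot (hsmall : d.q ^ 2 + d.q + 1 < 2 ^ padicValNat 2 (d.q ^ 2 - 1) * 2 ^ i₀) (h4 : 2 ≤ i₀) :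
    d.O = ⊥ := by
  classical
  haveI := h.simple
  haveI : Fact (Nat.Prime 2) := ⟨Nat.prime_two⟩
  letI := Fintype.ofFinite G
  letI : Fintype ↥(Subgroup.centralizer ({d.z} : Set G)) := Fintype.ofFinite _
  obtain ⟨Ω, _, D, hD, hDq, -, hv2, -⟩ := hd.exists_sys h
  haveI : Finite Ω := Nat.finite_of_card_ne_zero (by rw [hD.core.card]; omega)
  have hZ := torus_le h hd hq R huC hu huz hσ hb hbc hcard hD
  have hZ4 : 4 ≤ Nat.card D.core.Z := le_trans (Nat.pow_le_pow_right two_pos h4) hZ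
  obtain ⟨M, hM⟩ := exists_isPModular Nat.prime_two
  have hgen := hgen_all hD
  obtain ⟨e, he⟩ := exists_six hD hgen (M := M) hM
  obtain ⟨hC3, hY2, hcase⟩ := values hD hgen he hM
  obtain ⟨q1, q2, q3⟩ := class_equations hD hgen he
  obtain ⟨B, C, hB, hC, hA, hY, hF, nB, nC, nA, nY, nF, -, -, -⟩ := signed_degrees hD hgen he
  have hz1 : d.z ≠ 1 := ne_one_of_invol hd.zord
  have horth : ∀ i : Fin 6, i ≠ 0 → classInner (e i) (fun _ : G => (1 : ℂ)) = 0 := by
    intro i hi
    rw [← he.zero, he.orth, if_neg hi]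
  have hQabs : |D.Q| = (d.q : ℤ) := by
    rcases hD.core.sgn true with h | h <;> rw [Sys.Q, h, hDq] <;> simp
  obtain ⟨hQ0, hQ1, hQm⟩ := Q_facts hD
  rw [kappa_cast hD] at q1 q2 q3
  set K : ℚ := (Nat.card (Cz d.z) : ℚ) ^ 3 /
    ((Nat.card G : ℚ) * (Nat.card (Subgroup.centralizer ({(D.w : G), d.z} : Set G)) : ℚ) ^ 2) with hK
  have mA : (1 : ℚ) - B ≠ 0 := by exact_mod_cast nA
  have mB : (B : ℚ) ≠ 0 := by exact_mod_cast nB
  have mC : (C : ℚ) ≠ 0 := by exact_mod_cast nC
  have mY : (-1 : ℚ) - C ≠ 0 := by exact_mod_cast nY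
  have mF : (B : ℚ) - 1 - C ≠ 0 := by exact_mod_cast nF
  rcases hcase with ⟨hZ2, -⟩ | ⟨-, hδ, hv⟩
  · omega
  rw [hδ, hA] at q1 q3
  rw [hB] at q1
  rw [hY2, hC3, hY, hC] at q2
  rw [hC, hC3, hF] at q3
  have E2 : (1 : ℚ) + ((D.Q : ℚ) - 1) ^ 2 / (-1 - C) + (D.Q : ℚ) ^ 2 / C = K * (1 - 1 / (D.Q : ℚ)) := by
    apply Rat.cast_injective (α := ℂ)
    push_cast
    linear_combination q2
  rcases hv with ⟨a1, a2, a5⟩ | ⟨a1, a2, a5⟩
  swap
  · rw [a1, a2] at q1
    rw [a1, a5] at q3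
    have E1 : (-1 : ℚ) + ((D.Q : ℚ) + 1) ^ 2 / (1 - B) + (D.Q : ℚ) ^ 2 / B =
        K * (4 / ((D.Q : ℚ) + 1) - 1 - 1 / (D.Q : ℚ)) := by
      apply Rat.cast_injective (α := ℂ)
      push_cast
      linear_combination q1
    have E3 : ((D.Q : ℚ) + 1) ^ 2 / (1 - B) + (D.Q : ℚ) ^ 2 / C + 1 / (B - 1 - C) =
        K * (4 / ((D.Q : ℚ) + 1) - 1 - 1 / (D.Q : ℚ)) := by
      apply Rat.cast_injective (α := ℂ)
      push_cast
      linear_combination q3
    have hker : (B : ℚ) ≠ -(D.Q : ℚ) := by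
      intro h
      refine no_kernel (he.signed 2) (horth 2 (by decide)) hz1 ?_
      rw [a2, hB, show (B : ℂ) = ((B : ℚ) : ℂ) by norm_cast, h]
      push_cast; ring
    exact (BrauerOrder.Arith.wreathed_alt hQ0 hQ1 hQm mA mB mC mY mF hker E1 E2 E3).elim
  rw [a1, a2] at q1
  rw [a1, a5] at q3
  have E1 : (-1 : ℚ) + ((D.Q : ℚ) + 1) ^ 2 / (1 - B) + ((D.Q : ℚ) + 2) ^ 2 / B =
      K * (4 / ((D.Q : ℚ) + 1) - 1 - 1 / (D.Q : ℚ)) := by
    apply Rat.cast_injective (α := ℂ)
    push_cast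
    linear_combination q1
  have E3 : ((D.Q : ℚ) + 1) ^ 2 / (1 - B) + (D.Q : ℚ) ^ 2 / C + (2 * (D.Q : ℚ) + 1) ^ 2 / (B - 1 - C) =
      K * (4 / ((D.Q : ℚ) + 1) - 1 - 1 / (D.Q : ℚ)) := by
    apply Rat.cast_injective (α := ℂ)
    push_cast
    linear_combination q3
  have hker : (B : ℚ) ≠ (D.Q : ℚ) + 2 := by
    intro h
    refine no_kernel (he.signed 2) (horth 2 (by decide)) hz1 ?_
    rw [a2, hB, show (B : ℂ) = ((B : ℚ) : ℂ) by norm_cast, h]
    push_cast; ring
  obtain ⟨r1, -⟩ := BrauerOrder.Arith.wreathed_normal hQ0 hQ1 hQm mA mB mC mY mF hker E1 E2 E3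
  have r1' : B = D.Q ^ 2 + D.Q + 1 := by exact_mod_cast r1
  have hBle : |B| ≤ (d.q : ℤ) ^ 2 + d.q + 1 := by
    have h1 := abs_le.mp hQabs.le
    rw [r1', ← hQabs, sq_abs]
    have h2 : 0 ≤ D.Q ^ 2 + D.Q + 1 := by nlinarith
    rw [abs_of_nonneg h2]
    linarith [le_abs_self D.Q]
  -- the order of the Sylow subgroup
  obtain ⟨b', x', k', hr⟩ := hD.rot
  have hS : Nat.card (d.S : Subgroup G) = 2 ^ padicValNat 2 (d.q ^ 2 - 1) * Nat.card D.core.Z := by
    rw [d.S.card_eq_multiplicity, Nat.factorization_def _ Nat.prime_two, hv2, ← hDq, hr.exact,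
      D.core.S.card_eq_multiplicity, Nat.factorization_def _ Nat.prime_two]
  obtain ⟨χ, hχ, hsgn⟩ := he.inB0 2
  have hdeg := (charDegree_spec' χ.2).1
  have hlt : charDegree (χ : G → ℂ) < Nat.card (d.S : Subgroup G) := by
    have hn' : (charDegree (χ : G → ℂ) : ℤ) = |B| := by
      rcases hsgn with e' | e' <;> rw [e'] at hB
      · rw [show B = (charDegree (χ : G → ℂ) : ℤ) by exact_mod_cast hB.symm.trans hdeg, Nat.abs_cast]
      · rw [show B = -(charDegree (χ : G → ℂ) : ℤ) by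
          exact_mod_cast (show (B : ℂ) = -(charDegree (χ : G → ℂ) : ℂ) by rw [← hB, Pi.neg_apply, hdeg]),
          abs_neg, Nat.abs_cast]
    have h1 : 2 ^ padicValNat 2 (d.q ^ 2 - 1) * 2 ^ i₀ ≤ Nat.card (d.S : Subgroup G) :=
      hS ▸ Nat.mul_le_mul_left _ hZ
    have h2 : (charDegree (χ : G → ℂ) : ℤ) ≤ ((d.q ^ 2 + d.q + 1 : ℕ) : ℤ) := by
      rw [hn']; push_cast; exact hBle
    have h3 : charDegree (χ : G → ℂ) ≤ d.q ^ 2 + d.q + 1 := by exact_mod_cast h2
    omega
  have hnorm : (d.S : Subgroup G) ≤ Subgroup.normalizer (d.O : Set G) := fun s hs =>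
    Subgroup.mem_normalizer_fintype fun x hx =>
      Frame.Spec.O_conj (Subgroup.mem_centralizer_singleton_iff.mpr (hd.zc s hs)) hx
  have hdis : (d.S : Subgroup G) ⊓ d.O = ⊥ := by
    refine Subgroup.inf_eq_bot_of_coprime ?_
    obtain ⟨j, hj⟩ := d.S.2.exists_card_eq
    rw [hj]
    exact (Nat.coprime_two_left.mpr d.O_odd).pow_left j
  have hker : ∀ o ∈ d.O, (χ : G → ℂ) o = (χ : G → ℂ) 1 :=
    core_le_kernel (isCharacter_of_irr χ.2) hdeg _ _ hnorm hdis
      (fun s hs hs1 o ho => const_coset h hd hq R huC hu huz hσ hb hbc hn hcard hM hχ hs hs1 ho) (Or.inl hlt)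
  rw [Subgroup.eq_bot_iff_forall]
  intro o ho
  by_contra ho1
  refine no_kernel (he.signed 2) (horth 2 (by decide)) ho1 ?_
  rcases hsgn with e' | e' <;> rw [e']
  · exact hker o ho
  · rw [Pi.neg_apply, Pi.neg_apply, hker o ho]

end CfsgLib.RankTwoModel.SmallTorus
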