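import Cfsg.Agent.Lib.RankTwoModel.Below.Ctx
import Cfsg.Agent.Lib.RankTwoModel.Below.Dickson
import Cfsg.Agent.Lib.RankTwoModel.Below.SmallTorus
import Cfsg.Agent.Lib.RankTwo.PairTrivial

/-!
A proper subgroup over `N(U)` has no quaternion commutator data unless it covers `D`.

* `Quat H`: a `2`-subgroup `P` and an element `a` normalising it, two commutators `[pᵢ, a]` not commuting;
* `Quat.centre`: such data can be moved into the centraliser of `z`;
* `no_quat`: there are none.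

Blueprint: `blueprint/RankTwo_L5.md`, section F.
-/

set_option autoImplicit false
set_option linter.unusedSectionVars false
set_option linter.style.haveILetI false

namespace CfsgLib.RankTwoModel

open Cfsg CfsgLib.BG CfsgLib.GW CfsgLib.BenderMax
open scoped MatrixGroups

universe u

variable {G : Type u} [Group G] [Finite G]

/-- Quaternion commutator data. -/
def Quat (H : Subgroup G) : Prop :=
  ∃ P : Subgroup G, P ≤ H ∧ IsPGroup 2 P ∧ ∃ a ∈ H, a ∈ Subgroup.normalizer (P : Set G) ∧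
    ∃ p₁ ∈ P, ∃ p₂ ∈ P, ¬ Commute (p₁ * a * p₁⁻¹ * a⁻¹) (p₂ * a * p₂⁻¹ * a⁻¹)

theorem conj_comm (c p a : G) :
    c * p * c⁻¹ * (c * a * c⁻¹) * (c * p * c⁻¹)⁻¹ * (c * a * c⁻¹)⁻¹ = c * (p * a * p⁻¹ * a⁻¹) * c⁻¹ := by
  group

theorem quat_conj {H : Subgroup G} {c : G} (hc : c ∈ H) {P : Subgroup G} {a : G} (hP2 : IsPGroup 2 P)
    (hPH : P ≤ H) (ha : a ∈ H) (haP : a ∈ Subgroup.normalizer (P : Set G)) {p₁ p₂ : G} (h₁ : p₁ ∈ P) (h₂ : p₂ ∈ P)
    (hne : ¬ Commute (p₁ * a * p₁⁻¹ * a⁻¹) (p₂ * a * p₂⁻¹ * a⁻¹)) {K : Subgroup G} (hK : cj c P ≤ K)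
    (haK : c * a * c⁻¹ ∈ K) (hKH : ∀ x ∈ H, x ∈ K → x ∈ H ⊓ K) : Quat (H ⊓ K) := by
  refine ⟨cj c P, fun x hx => ?_, hP2.map _, c * a * c⁻¹, hKH _ (mul_mem (mul_mem hc ha) (inv_mem hc)) haK, ?_,
    c * p₁ * c⁻¹, conj_mem_cj h₁, c * p₂ * c⁻¹, conj_mem_cj h₂, ?_⟩
  · obtain ⟨y, hy, rfl⟩ := id hx
    exact hKH _ (mul_mem (mul_mem hc (hPH hy)) (inv_mem hc)) (hK hx)
  · refine Subgroup.mem_normalizer_fintype ?_
    rintro _ ⟨y, hy, rfl⟩
    exact ⟨a * y * a⁻¹, mem_normalizer_of_mem haP hy, by simp [mul_assoc]⟩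
  · rw [conj_comm, conj_comm, Commute.conj_iff]
    exact hne

variable {d : Frame G} {u g : G} {H : Subgroup G}

/-- **The data move into the centraliser of `z`.** -/
theorem Quat.centre (h : Hyp G) (T : Tri d u g) (hzH : d.z ∈ H) (huH : u ∈ H) (hgH : g ∈ H) (hQ : Quat H) :
    Quat (H ⊓ d.C) := by
  classical
  haveI : Fact (Nat.Prime 2) := ⟨Nat.prime_two⟩
  obtain ⟨P, hPH, hP2, a, haH, haP, p₁, h₁, p₂, h₂, hne⟩ := id hQ
  have hc : ∀ {p : G}, p ∈ P → p * a * p⁻¹ * a⁻¹ ∈ P := fun {p} hp => by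
    rw [show p * a * p⁻¹ * a⁻¹ = p * (a * p⁻¹ * a⁻¹) by group]
    exact mul_mem hp (mem_normalizer_of_mem haP (inv_mem hp))
  have hna : ¬ IsMulCommutative P := fun hcm => hne
    (congrArg Subtype.val (hcm.is_comm.comm ⟨_, hc h₁⟩ ⟨_, hc h₂⟩))
  haveI : Nontrivial P := by
    by_contra hnt
    rw [not_nontrivial_iff_subsingleton] at hnt
    exact hna ⟨⟨fun _ _ => Subsingleton.elim _ _⟩⟩
  haveI := hP2.center_nontrivial
  obtain ⟨t, ht⟩ := exists_prime_orderOf_dvd_card' (G := Subgroup.center P) 2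
    (((hP2.to_subgroup _).card_eq_or_dvd).resolve_left Finite.one_lt_card.ne')
  rw [← Subgroup.orderOf_coe, ← Subgroup.orderOf_coe] at ht
  set t₀ : G := ((t : P) : G) with ht₀
  have htc : ∀ x ∈ P, t₀ * x = x * t₀ := fun x hx =>
    (congrArg Subtype.val (Subgroup.mem_center_iff.mp t.2 ⟨x, hx⟩)).symm
  have htP : t₀ ∈ P := (t : P).2
  have hat : a * t₀ * a⁻¹ = t₀ := by
    refine h.eq_of_fixes hP2 hna ((orderOf_cj a t₀).trans ht) ht ?_ (fun x hx => ?_) htc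
    · exact (htc _ (mem_normalizer_of_mem haP htP)).symm
    · have h1 := (Commute.conj_iff a).2 (show Commute t₀ (a⁻¹ * x * a) from htc _ (inv_conj_mem haP hx))
      rw [show a * (a⁻¹ * x * a) * a⁻¹ = x by group] at h1
      exact h1.eq
  -- a Sylow subgroup of `H` over the four group
  have hV : IsPGroup 2 ((four d.z u).subgroupOf H) :=
    (CfsgLib.DihedralFusion.isPGroup_klein (isKleinFour_four T.zord T.ord T.comm.symm T.ne)).comap_of_injective _ H.subtype_injective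
  obtain ⟨Q, hQV⟩ := hV.exists_le_sylow
  obtain ⟨Q', hQ'⟩ := (hP2.comap_of_injective H.subtype H.subtype_injective :
    IsPGroup 2 (P.subgroupOf H)).exists_le_sylow
  obtain ⟨k, hk⟩ := MulAction.exists_smul_eq H Q' Q
  have hmove : ∀ x (hx : x ∈ P), k * ⟨x, hPH hx⟩ * k⁻¹ ∈ (Q : Subgroup H) := fun x hx => by
    rw [← hk]
    exact Subgroup.smul_mem_pointwise_smul _ (MulAut.conj k) _ (hQ' (Subgroup.mem_subgroupOf.mpr hx))
  haveI : Nontrivial (Q : Subgroup H) := by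
    refine (Subgroup.nontrivial_iff_exists_ne_one _).2 ⟨⟨d.z, hzH⟩, hQV (Subgroup.mem_subgroupOf.mpr
      (left_mem_four _ _)), fun e => ne_one_of_invol T.zord (congrArg Subtype.val e)⟩
  haveI := Q.2.center_nontrivial
  obtain ⟨w, hw⟩ := exists_prime_orderOf_dvd_card' (G := Subgroup.center (Q : Subgroup H)) 2
    (((Q.2.to_subgroup _).card_eq_or_dvd).resolve_left Finite.one_lt_card.ne')
  rw [← Subgroup.orderOf_coe, ← Subgroup.orderOf_coe, ← Subgroup.orderOf_coe] at hw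
  set w₀ : G := (((w : (Q : Subgroup H)) : H) : G) with hw₀
  have hwc : ∀ x : H, x ∈ (Q : Subgroup H) → w₀ * x = x * w₀ := fun x hx =>
    (congrArg (fun y : (Q : Subgroup H) => ((y : H) : G)) (Subgroup.mem_center_iff.mp w.2 ⟨x, hx⟩)).symm
  -- the conjugate of `t` is that involution
  have htw : (k : G) * t₀ * (k : G)⁻¹ = w₀ := by
    refine h.eq_of_fixes (hP2.map (MulAut.conj (k : G)).toMonoidHom) ?_ ((orderOf_cj _ _).trans ht) hw
      (hwc _ (hmove t₀ htP)).symm ?_ ?_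
    · intro hcm
      refine hna ⟨⟨fun x y => Subtype.ext ?_⟩⟩
      have := congrArg Subtype.val (hcm.is_comm.comm ⟨_, x, x.2, rfl⟩ ⟨_, y, y.2, rfl⟩)
      exact ((Commute.conj_iff (k : G)).1 this).eq
    · rintro _ ⟨y, hy, rfl⟩
      exact ((Commute.conj_iff (k : G)).2 (htc y hy)).eq
    · rintro _ ⟨y, hy, rfl⟩
      exact hwc _ (hmove y hy)
  -- move it to `z`
  obtain ⟨j, hj, hjw⟩ : ∃ j ∈ H, j * w₀ * j⁻¹ = d.z := by
    rcases h.invol_cases T.zord T.ord T.comm.symm T.ne hw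
      (hwc ⟨d.z, hzH⟩ (hQV (Subgroup.mem_subgroupOf.mpr (left_mem_four _ _))))
      (hwc ⟨u, huH⟩ (hQV (Subgroup.mem_subgroupOf.mpr (right_mem_four _ _)))) with e | e | e
    · exact ⟨1, one_mem _, by rw [e]; group⟩
    · exact ⟨g⁻¹, inv_mem hgH, by rw [e, inv_inv, T.back_u]⟩
    · exact ⟨g, hgH, by rw [e, T.zu_to]⟩
  have hct : ∀ x, Commute x t₀ → j * k * x * (j * k)⁻¹ ∈ d.C := fun x hx => by
    refine mem_cent.2 ?_
    have := (Commute.conj_iff (j * (k : G))).2 hx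
    rw [show j * (k : G) * t₀ * (j * k)⁻¹ = d.z by
      rw [show j * (k : G) * t₀ * (j * k)⁻¹ = j * ((k : G) * t₀ * (k : G)⁻¹) * j⁻¹ by group, htw, hjw]] at this
    exact this.eq
  refine quat_conj (mul_mem hj k.2) hP2 hPH haH haP h₁ h₂ hne (K := d.C) ?_
    (hct a (mul_inv_eq_iff_eq_mul.1 hat)) fun x hx hxK => ⟨hx, hxK⟩
  rintro _ ⟨x, hx, rfl⟩
  exact hct x (htc x hx).symm

variable (h : Hyp G) (hd : d.Spec) (hq : 3 < d.q) (hOD : ¬ ∀ x ∈ d.O, ∀ y ∈ d.D, x * y = y * x)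
  (hUall : ∀ x ∈ d.U, x = 1 ∨ x = d.z ∨ x = u ∨ x = d.z * u) (huU : u ∈ d.U) (T : Tri d u g)
  (hNU : Subgroup.normalizer (d.U : Set G) ≤ H)

include hd hUall huU T hNU

/-- The elements of `C` permuting `u, z u` lie in `H`. -/
theorem mem_of_perm {n : G} (hnC : n ∈ d.C) (hn : n * u * n⁻¹ = u ∨ n * u * n⁻¹ = d.z * u) : n ∈ H := by
  refine hNU (Subgroup.mem_normalizer_fintype fun x hx => ?_)
  have hz : n * d.z * n⁻¹ = d.z := conj_eq_self (Frame.Spec.z_central hnC)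
  have hu' : n * u * n⁻¹ ∈ d.U := by
    rcases hn with e | e <;> rw [e]
    exacts [huU, mul_mem hd.zU huU]
  rcases hUall x hx with rfl | rfl | rfl | rfl
  · simp
  · rw [hz]; exact hd.zU
  · exact hu'
  · rw [show n * (d.z * u) * n⁻¹ = (n * d.z * n⁻¹) * (n * u * n⁻¹) by group, hz]
    exact mul_mem hd.zU hu'

include h hq hOD

/-- **No data.** -/
theorem no_quat (hgH : g ∈ H) (hprop : ¬ ∀ x ∈ d.D, ∃ o ∈ d.O, x * o ∈ H) (hQ : Quat H) : False := by
  classical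
  haveI : Fact (Nat.Prime 2) := ⟨Nat.prime_two⟩
  haveI : Fact d.p.Prime := ⟨hd.prime⟩
  haveI := hd.charP
  have huH : u ∈ H := mem_of_perm hd hUall huU T hNU T.mem (Or.inl (conj_eq_self rfl))
  have hzH : d.z ∈ H := mem_of_perm hd hUall huU T hNU Frame.Spec.z_mem_C (Or.inl (conj_eq_self T.comm.symm))
  obtain ⟨P, hPH, hP2, a, haH, haP, p₁, h₁, p₂, h₂, hne⟩ := hQ.centre h T hzH huH hgH
  obtain ⟨R⟩ := hd.exists_rep
  obtain ⟨gu, htr, -, hσ⟩ := R.invol hd hq h T.mem T.ord T.ne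
  obtain ⟨b, hb, -, hbc⟩ := SL2.exists_torus hd.odd_card (hd.three_lt hq) htr
  have hfix : ∀ A, R.σ ⟨u, T.mem⟩ A = A ↔ A ∈ Subgroup.centralizer ({b} : Set SL(2, d.F)) :=
    SmallTorus.fixed_iff R T.mem hσ hbc
  -- the image in `PSL₂`
  let π' := (QuotientGroup.mk' (Subgroup.center SL(2, d.F))).comp R.π
  set Y := (H.subgroupOf d.L).map π' with hY
  set Θ : ↥d.C → MulAut (Matrix.ProjectiveSpecialLinearGroup (Fin 2) d.F) := fun c => SL2.toPSL (R.σ c) with hΘ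
  have hΘmk : ∀ (c : ↥d.C) (A : SL(2, d.F)), Θ c (PSL2.mk A) = PSL2.mk (R.σ c A) := fun c A => rfl
  have hΘY : ∀ (c : ↥d.C), (c : G) ∈ H → ∀ y ∈ Y, Θ c y ∈ Y := by
    rintro c hcH _ ⟨x, hx, rfl⟩
    rw [Subgroup.mem_map]
    refine ⟨⟨(c : G) * x * (c : G)⁻¹, d.L_conj c.2 x.2⟩,
      Subgroup.mem_subgroupOf.mpr (mul_mem (mul_mem hcH hx) (inv_mem hcH)), ?_⟩
    show PSL2.mk (R.π _) = Θ c (PSL2.mk (R.π x))
    rw [hΘmk, R.compat]
  -- the torus
  have hx₀ : DicksonFull.SS d.p (PSL2.mk b) := (DicksonFull.ss_iff d.p).mpr hb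
  have hTeq : (DicksonFull.psl d.p).T (PSL2.mk b) = DicksonFull.cT b :=
    DicksonFull.cT_congr (QuotientGroup.out_eq' _)
  set Tb := DicksonFull.cT b with hTb
  have hodd : Odd (Fintype.card d.F) := hd.odd_card
  have hgcd : Nat.gcd 2 (Fintype.card d.F - 1) = 2 := Nat.gcd_eq_left (even_iff_two_dvd.mp (by
    obtain ⟨j, hj⟩ := hodd; exact ⟨j, by omega⟩))
  have hn : 2 * Nat.card Tb = Fintype.card d.F + 1 ∨ 2 * Nat.card Tb = Fintype.card d.F - 1 := by
    rcases DicksonFull.card_torus (F := d.F) hb with ⟨-, e⟩ | ⟨-, e⟩ <;> rw [hgcd] at e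
    exacts [Or.inl e, Or.inr e]
  have hq5 : 5 ≤ Fintype.card d.F := by
    have := hd.three_lt hq
    obtain ⟨j, hj⟩ := hodd
    omega
  set n := Nat.card Tb with hndef
  have hn2 : 2 ≤ n := by omega
  have hlift : ∀ A ∈ Subgroup.centralizer ({b} : Set SL(2, d.F)), ∃ (y : G) (hy : y ∈ d.L),
      R.π ⟨y, hy⟩ = A ∧ y * u = u * y ∧ y ∈ H := by
    intro A hA
    obtain ⟨y, hy, hyA, hyu⟩ := R.lift_fixed hd hq T.mem T.uu ((hfix A).mpr hA)
    exact ⟨y, hy, hyA, hyu, mem_of_perm hd hUall huU T hNU (d.L_le hy) (Or.inl (conj_eq_self hyu))⟩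
  have hTY : Tb ≤ Y := by
    rintro _ ⟨A, hA, rfl⟩
    obtain ⟨y, hy, hyA, -, hyH⟩ := hlift A hA
    exact ⟨⟨y, hy⟩, hyH, congrArg _ hyA⟩
  -- the reflection
  obtain ⟨y₀, hy₀D, hy₀⟩ := h.swap_D hd hq T.mem T.ord T.ne
  have hy₀L : y₀ ∈ d.L := hd.D_le_L hq hy₀D
  have hy₀H : y₀ ∈ H := mem_of_perm hd hUall huU T hNU (d.L_le hy₀L) (Or.inr hy₀)
  set W := R.π ⟨y₀, hy₀L⟩ with hW
  have hwY : PSL2.mk W ∈ Y := ⟨⟨y₀, hy₀L⟩, hy₀H, rfl⟩
  have hwN : PSL2.mk W ∈ Subgroup.normalizer (Tb : Set (Matrix.ProjectiveSpecialLinearGroup (Fin 2) d.F)) := by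
    refine Subgroup.mem_normalizer_fintype ?_
    rintro _ ⟨A, hA, rfl⟩
    obtain ⟨y, hy, hyA, hyu, -⟩ := hlift A hA
    have hc : Commute (y₀ * y * y₀⁻¹) u := by
      have h1 := (Commute.conj_iff y₀).2 (show Commute y u from hyu)
      rw [hy₀] at h1
      have h2 : Commute (y₀ * y * y₀⁻¹) d.z := Frame.Spec.z_central (d.L_conj (d.L_le hy₀L) hy |> d.L_le)
      have h3 := h2.mul_right h1
      rwa [T.z_zu] at h3
    refine ⟨W * A * W⁻¹, ?_, by simp⟩
    rw [SetLike.mem_coe, ← hfix, hW, ← hyA, ← map_inv, ← map_mul, ← map_mul, R.compat]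
    refine congrArg R.π (Subtype.ext ?_)
    show u * (y₀ * y * y₀⁻¹) * u⁻¹ = y₀ * y * y₀⁻¹
    rw [← hc.eq, mul_inv_cancel_right]
  have hwT : PSL2.mk W ∉ Tb := by
    intro hw
    rw [hTb, DicksonFull.mem_cT] at hw
    obtain ⟨l, hl, hlW, hlu, -⟩ := hlift W (Subgroup.mem_centralizer_singleton_iff.mpr hw)
    have ho : l⁻¹ * y₀ ∈ d.O := (R.ker (⟨l, hl⟩⁻¹ * ⟨y₀, hy₀L⟩)).1 (by rw [map_mul, map_inv, hlW, inv_mul_cancel])
    set o := l⁻¹ * y₀ with hodef
    have e1 : o * u * o⁻¹ = d.z * u := by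
      have hlzu : Commute l (d.z * u) :=
        (show Commute l d.z from Frame.Spec.z_central (d.L_le hl)).mul_right hlu
      rw [hodef, show l⁻¹ * y₀ * u * (l⁻¹ * y₀)⁻¹ = l⁻¹ * (y₀ * u * y₀⁻¹) * l by group, hy₀, mul_assoc,
        ← hlzu.eq, inv_mul_cancel_left]
    have hzO : d.z ∈ d.O := by
      have e2 : d.z = o * (u * o⁻¹ * u⁻¹) := by
        calc d.z = d.z * u * u⁻¹ := by group
          _ = _ := by rw [← e1]; group
      rw [e2]
      exact mul_mem ho (Frame.Spec.O_conj T.mem (inv_mem ho))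
    exact not_mem_of_odd d.O_odd T.zord hzO
  set NT := Subgroup.normalizer (Tb : Set (Matrix.ProjectiveSpecialLinearGroup (Fin 2) d.F)) with hNT
  have hN2 : Nat.card NT = 2 * n := by
    rw [hNT, ← hTeq, DicksonFull.card_norm d.p hx₀, hTeq]
  have hNY : NT ≤ Y := by
    have hle : Tb ≤ Y ⊓ NT := le_inf hTY Subgroup.le_normalizer
    have hd1 : n ∣ Nat.card (Y ⊓ NT : Subgroup _) := Subgroup.card_dvd_of_le hle
    have hd2 : Nat.card (Y ⊓ NT : Subgroup _) ∣ 2 * n := hN2 ▸ Subgroup.card_dvd_of_le inf_le_right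
    have hlt : n < Nat.card (Y ⊓ NT : Subgroup _) := lt_of_le_of_ne (Nat.le_of_dvd Nat.card_pos hd1) fun e =>
      hwT ((Subgroup.eq_of_le_of_card_ge hle e.ge).ge ⟨hwY, hwN⟩)
    obtain ⟨c, hc⟩ := hd1
    rw [hc] at hd2 hlt
    have hd2' : n * c ∣ n * 2 := by rw [Nat.mul_comm n 2]; exact hd2
    have hc2 : c ∣ 2 := Nat.dvd_of_mul_dvd_mul_left (by omega) hd2'
    have hc2' : c = 2 := by
      rcases (Nat.dvd_prime Nat.prime_two).mp hc2 with e | e
      · subst e; simp at hlt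
      · exact e
    exact inf_eq_right.mp (Subgroup.eq_of_le_of_card_ge inf_le_right (by rw [hN2, hc, hc2', mul_comm]))
  -- a generator
  obtain ⟨⟨x, hxT⟩, hxgen⟩ : ∃ x : Tb, ∀ y, y ∈ Subgroup.zpowers x := by
    haveI : IsCyclic Tb := hTeq ▸ (DicksonFull.psl d.p).T_cyclic _ hx₀
    exact IsCyclic.exists_generator
  have hxn : orderOf x = n := by
    rw [hndef, ← orderOf_eq_card_of_forall_mem_zpowers hxgen, Subgroup.orderOf_mk]
  have hx1 : x ≠ 1 := fun e => by rw [e, orderOf_one] at hxn; omega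
  obtain ⟨hxS, hxTT⟩ := (DicksonFull.psl d.p).T_eq _ x hx₀ (hTeq ▸ hxT) hx1
  rw [hTeq] at hxTT
  by_cases htop : Y = ⊤
  · -- `H` covers `D`
    refine hprop fun x hx => ?_
    obtain ⟨l, hl, hlx⟩ := htop.ge (Subgroup.mem_top (PSL2.mk (R.π ⟨x, hd.D_le_L hq hx⟩)))
    rcases DicksonFull.eq_or_neg hlx with e | e
    · refine ⟨x⁻¹ * l, (R.ker (⟨x, hd.D_le_L hq hx⟩⁻¹ * l)).1 (by rw [map_mul, map_inv, e, inv_mul_cancel]), ?_⟩
      rw [mul_inv_cancel_left]
      exact hl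
    · refine ⟨x⁻¹ * (d.z * l), (R.ker (⟨x, hd.D_le_L hq hx⟩⁻¹ * (⟨d.z, hd.z_mem_L⟩ * l))).1 (by
        rw [map_mul, map_inv, map_mul, R.pi_z hd, neg_one_mul, e, inv_mul_cancel]), ?_⟩
      rw [mul_inv_cancel_left]
      exact mul_mem hzH hl
  -- a small torus
  have hexc : ¬ (n = 2 ∨ n = 4) := by
    intro hn24
    have hcard : Nat.card (Subgroup.centralizer ({b} : Set SL(2, d.F))) = 2 * n := by
      have key := DicksonFull.card_lift (F := d.F) (fun y => y ∈ Tb)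
      rw [hgcd] at key
      refine Eq.trans ?_ key
      exact Nat.card_congr (Equiv.subtypeEquivRight fun A => by
        rw [hTb, DicksonFull.mem_cT, Subgroup.mem_centralizer_singleton_iff])
    have hqc : Fintype.card d.F = d.q := hd.card
    have hn' : d.n ≤ 2 := by
      by_contra h3
      rw [not_le] at h3
      have h3p : 3 ≤ d.p := by
        have := hd.prime.two_le
        have := hd.podd
        omega
      have : 3 ^ 3 ≤ d.p ^ d.n := (Nat.pow_le_pow_left h3p 3).trans (Nat.pow_le_pow_right (by omega) h3)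
      rw [show d.p ^ d.n = d.q from rfl, ← hqc] at this
      omega
    obtain ⟨j, hj⟩ := hodd
    have hqs : (n = 2 ∧ d.q = 5) ∨ (n = 4 ∧ (d.q = 7 ∨ d.q = 9)) := by omega
    have hval : ∀ {k m : ℕ}, m ≠ 0 → 2 ^ k ∣ m → k ≤ padicValNat 2 m := fun {k m} hm h =>
      (padicValNat_dvd_iff_le hm).mp h
    rcases hqs with ⟨hn2', hq'⟩ | ⟨hn4, hq'⟩
    · refine hOD fun o ho => ?_
      have := SmallTorus.core_eq_bot h hd hq R T.mem T.ord T.ne hσ hb hbc hn' (i₀ := 2) (by rw [hcard, hn2']; norm_num)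
        (by rw [hq']; calc 5 ^ 2 + 5 + 1 < 2 ^ 3 * 2 ^ 2 := by norm_num
                          _ ≤ _ := Nat.mul_le_mul_right _ (Nat.pow_le_pow_right two_pos
                            (hval (by norm_num) (by norm_num)))) le_rfl
      rw [this, Subgroup.mem_bot] at ho
      intro y _
      rw [ho, one_mul, mul_one]
    · refine hOD fun o ho => ?_
      have := SmallTorus.core_eq_bot h hd hq R T.mem T.ord T.ne hσ hb hbc hn' (i₀ := 3) (by rw [hcard, hn4]; norm_num)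
        (by
          rcases hq' with hq' | hq' <;> rw [hq'] <;>
            refine lt_of_lt_of_le ?_ (Nat.mul_le_mul_right _ (Nat.pow_le_pow_right two_pos
              (hval (k := 4) (by norm_num) (by norm_num)))) <;> norm_num) (by norm_num)
      rw [this, Subgroup.mem_bot] at ho
      intro y _
      rw [ho, one_mul, mul_one]
  have hn3 : 3 ≤ n := by omega
  have hx2 : x ^ 2 ≠ 1 := fun e => by
    have := Nat.le_of_dvd (by norm_num) (orderOf_dvd_of_pow_eq_one e)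
    omega
  -- the normaliser of the torus is not invariant
  have hnotN : Y ≠ NT := by
    intro hYN
    have hpow : ∀ (c : ↥d.C), (c : G) ∈ H → ∀ y ∈ Subgroup.zpowers x, Θ c y ∈ Subgroup.zpowers x := by
      intro c hcH y hy
      obtain ⟨i, rfl⟩ := Subgroup.mem_zpowers_iff.mp hy
      rw [map_zpow]
      refine Subgroup.zpow_mem _ ?_ i
      have h1 : Θ c x ∈ NT := hYN ▸ hΘY c hcH x (hTY hxT)
      have h2 : Θ c x ∈ Tb := by
        by_contra hn'
        refine hx2 ?_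
        have h3 := DicksonFull.inverter_sq (DicksonFull.psl d.p) hxS (g := Θ c x)
          (by rw [hxTT]; exact mem_normalizer_of_mem h1 hxT) (by rw [hxTT]; exact hn')
        rw [← map_pow] at h3
        exact (Θ c).injective (h3.trans (map_one _).symm)
      obtain ⟨i', hi'⟩ := Subgroup.mem_zpowers_iff.mp (hxgen ⟨_, h2⟩)
      exact Subgroup.mem_zpowers_iff.mpr ⟨i', congrArg Subtype.val hi'⟩
    have hcom : ∀ (c c' : ↥d.C), (c : G) ∈ H → (c' : G) ∈ H → ∀ y ∈ Subgroup.zpowers x,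
        Θ c (Θ c' y) = Θ c' (Θ c y) := by
      intro c c' hc hc' y hy
      obtain ⟨i, rfl⟩ := Subgroup.mem_zpowers_iff.mp hy
      obtain ⟨k, hk⟩ := Subgroup.mem_zpowers_iff.mp (hpow c hc x (Subgroup.mem_zpowers x))
      obtain ⟨k', hk'⟩ := Subgroup.mem_zpowers_iff.mp (hpow c' hc' x (Subgroup.mem_zpowers x))
      simp only [map_zpow, ← hk, ← hk', ← zpow_mul]
      congr 1
      ring
    -- so the commutators lie in the torus
    have hin : ∀ p ∈ P, ∃ hc : p * a * p⁻¹ * a⁻¹ ∈ d.L, Commute (R.π ⟨_, hc⟩) b := by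
      intro p hp
      set cp : ↥d.C := ⟨p, (hPH hp).2⟩ with hcp
      set ca : ↥d.C := ⟨a, haH.2⟩ with hca
      have hcL : p * a * p⁻¹ * a⁻¹ ∈ d.L := by
        refine Frame.mem_L.mpr ⟨(cp * ca * cp⁻¹ * ca⁻¹).2, ?_⟩
        show QuotientGroup.mk' _ (cp * ca * cp⁻¹ * ca⁻¹) ∈ _
        rw [← commutatorElement_def, map_commutatorElement, commutator_def]
        exact Subgroup.commutator_mem_commutator (Subgroup.mem_top _) (Subgroup.mem_top _)
      refine ⟨hcL, ?_⟩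
      have hfixx : Θ (cp * ca * cp⁻¹ * ca⁻¹) x = x := by
        have hm : ∀ c c' : ↥d.C, Θ (c * c') x = Θ c (Θ c' x) := fun c c' => by
          rw [hΘ]
          show SL2.toPSL (R.σ (c * c')) x = _
          rw [map_mul, SL2.toPSL, map_mul]
          rfl
        have hpH : (cp : G) ∈ H := (hPH hp).1
        have haH' : (ca : G) ∈ H := haH.1
        have hm' : ∀ (c : ↥d.C) y, Θ c (Θ c⁻¹ y) = y := fun c y => by
          rw [hΘ]
          show SL2.toPSL (R.σ c) (SL2.toPSL (R.σ c⁻¹) y) = y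
          rw [map_inv, SL2.toPSL, SL2.toPSL, map_inv]
          exact MulEquiv.apply_symm_apply _ y
        have hmm : ∀ c c' y, Θ (c * c') y = Θ c (Θ c' y) := fun c c' y => by
          rw [hΘ]
          show SL2.toPSL (R.σ (c * c')) y = _
          rw [map_mul, SL2.toPSL, map_mul]
          rfl
        have hy1 : Θ ca⁻¹ x ∈ Subgroup.zpowers x :=
          hpow _ (by show (ca : G)⁻¹ ∈ H; exact inv_mem haH') x (Subgroup.mem_zpowers x)
        rw [hmm, hmm, hmm, hcom cp ca hpH haH' _ (hpow _ (by show (cp : G)⁻¹ ∈ H; exact inv_mem hpH) _ hy1), hm' cp,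
          hm' ca]
      have hcY : PSL2.mk (R.π ⟨_, hcL⟩) ∈ Y := by
        refine ⟨⟨_, hcL⟩, ?_, rfl⟩
        exact H.mul_mem (H.mul_mem (H.mul_mem (hPH hp).1 haH.1) (H.inv_mem (hPH hp).1)) (H.inv_mem haH.1)
      have hconj : PSL2.mk (R.π ⟨_, hcL⟩) * x * (PSL2.mk (R.π ⟨_, hcL⟩))⁻¹ = x := by
        obtain ⟨X, hX⟩ := DicksonFull.mk_surj x
        rw [← hX, ← map_inv, ← map_mul, ← map_mul, ← R.sigma_inner ⟨_, hcL⟩ X]
        conv_rhs => rw [hX, ← hfixx, ← hX, hΘmk]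
        rfl
      have hcT : PSL2.mk (R.π ⟨_, hcL⟩) ∈ Tb := by
        by_contra hn'
        refine hx2 ?_
        have h3 := ((DicksonFull.psl d.p).T_norm x _ hxS
          (by rw [hxTT, hconj]; exact hxT) (by rw [hxTT]; exact hn')).1 x (by rw [hxTT]; exact hxT)
        rw [hconj] at h3
        rw [pow_two]
        nth_rw 1 [h3]
        exact inv_mul_cancel x
      rw [hTb, DicksonFull.mem_cT] at hcT
      exact hcT
    obtain ⟨hc₁, hb₁⟩ := hin p₁ h₁
    obtain ⟨hc₂, hb₂⟩ := hin p₂ h₂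
    have hcomm := SL2Tori.commute_of_commute (SL2Tori.ns_of_trace hb) hb₁ hb₂
    set c₁ := p₁ * a * p₁⁻¹ * a⁻¹ with hc₁d
    set c₂ := p₂ * a * p₂⁻¹ * a⁻¹ with hc₂d
    have hO : c₁ * c₂ * c₁⁻¹ * c₂⁻¹ ∈ d.O := (R.ker (⟨c₁, hc₁⟩ * ⟨c₂, hc₂⟩ * ⟨c₁, hc₁⟩⁻¹ * ⟨c₂, hc₂⟩⁻¹)).1 (by
      rw [map_mul, map_mul, map_mul, map_inv, map_inv, hcomm.eq, mul_inv_cancel_right, mul_inv_cancel])
    have hcP : ∀ {p : G}, p ∈ P → p * a * p⁻¹ * a⁻¹ ∈ P := fun {p} hp => by
      rw [show p * a * p⁻¹ * a⁻¹ = p * (a * p⁻¹ * a⁻¹) by group]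
      exact mul_mem hp (mem_normalizer_of_mem haP (inv_mem hp))
    have hP' : c₁ * c₂ * c₁⁻¹ * c₂⁻¹ ∈ P :=
      mul_mem (mul_mem (mul_mem (hcP h₁) (hcP h₂)) (inv_mem (hcP h₁))) (inv_mem (hcP h₂))
    have h1 : c₁ * c₂ * c₁⁻¹ * c₂⁻¹ = 1 := by
      refine Subgroup.mem_bot.1 ((Subgroup.inf_eq_bot_of_coprime ?_ : P ⊓ d.O = ⊥) ▸ ⟨hP', hO⟩)
      obtain ⟨k, hk⟩ := hP2.exists_card_eq
      rw [hk]
      exact (Nat.coprime_two_left.mpr d.O_odd).pow_left k
    exact hne (mul_inv_eq_iff_eq_mul.1 (mul_inv_eq_one.1 h1))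
  have hN' : Subgroup.normalizer ((DicksonFull.psl d.p).T x : Set (Matrix.ProjectiveSpecialLinearGroup (Fin 2) d.F)) =
      NT := by rw [hxTT, hNT]
  rcases Below.torus_overgroup d.p hodd hxS (by rw [hxTT]; exact hxn) (by omega) (by omega) htop
      (hN'.le.trans hNY) with e | e | ⟨e, hcY⟩
  · exact hnotN (e.trans hN')
  · exact hexc (Or.inr (hxn ▸ e))
  · rw [hxn] at e hcY
    have huY : (u : G) ∈ H := huH
    refine Below.no_middle (θ := Θ ⟨u, T.mem⟩) (Y := Y) (T := Tb) (t := x) ?_ (hΘY _ huY) ?_ hTY hxT ?_ ?_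
      (by rw [hxn]) ?_ hcY ?_
    · intro y
      obtain ⟨A, rfl⟩ := DicksonFull.mk_surj y
      rw [hΘmk, hΘmk, ← MulAut.mul_apply, ← map_mul,
        show (⟨u, T.mem⟩ : ↥d.C) * ⟨u, T.mem⟩ = 1 from Subtype.ext T.uu, map_one]
      rfl
    · rintro _ ⟨A, hA, rfl⟩
      rw [hΘmk, (hfix A).mpr hA]
    · rcases e with e | e <;> rw [← hndef, e] <;> norm_num
    · rcases e with e | e <;> rw [← hndef, e] <;> norm_num
    · rw [← hndef, inf_eq_right.mpr hNY, hN2]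
    · intro y hy hyo
      obtain ⟨A, rfl⟩ := DicksonFull.mk_surj y
      rw [hΘmk] at hy
      obtain ⟨j, hj⟩ := hyo
      have hsq : PSL2.mk A * PSL2.mk A ∈ Tb := by
        rw [← map_mul, hTb, DicksonFull.mem_cT, ← Subgroup.mem_centralizer_singleton_iff, ← hfix, map_mul]
        rcases DicksonFull.eq_or_neg hy with e' | e'
        · rw [← e']
        · rw [show R.σ ⟨u, T.mem⟩ A = -A from neg_eq_iff_eq_neg.mp e'.symm, neg_mul_neg]
      have h1 : (PSL2.mk A * PSL2.mk A) ^ (j + 1) = PSL2.mk A := by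
        rw [← pow_two, ← pow_mul, show 2 * (j + 1) = orderOf (PSL2.mk A) + 1 by omega, pow_succ, pow_orderOf_eq_one,
          one_mul]
      exact h1 ▸ pow_mem hsq _

end CfsgLib.RankTwoModel
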