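import Cfsg.Agent.Lib.RankTwoModel.Below.Invariant
import Cfsg.Agent.Lib.RankTwoModel.Below.NoQuat
import Cfsg.Agent.Lib.RankTwoModel.GAxB
import Cfsg.Agent.Lib.RankTwoModel.RadSection
import Cfsg.Agent.Lib.RankTwoModel.Stable

/-!
**P4: with `[O, D] ≠ 1` the centraliser of the involution is maximal.**

* `quat_of_surj`: quaternion commutator data lift from quotients of subgroups; `quat_sl`: `SL₂(q)` has them;
* `stab_of_no_section`: no section `SL₂(p)` gives stability;
* `LCtx.impossible`: the case `C < M` is impossible;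
* `not_below`: `C` is maximal.

Blueprint: `blueprint/RankTwo_L5.md`, section F.
-/

set_option autoImplicit false
set_option linter.unusedSectionVars false
set_option linter.style.haveILetI false

namespace CfsgLib.RankTwoModel

open Cfsg CfsgLib.BG CfsgLib.GW CfsgLib.BenderMax
open scoped MatrixGroups commutatorElement

universe u v

variable {G : Type u} [Group G] [Finite G]

/-- The data lift from a quotient of a subgroup. -/
theorem quat_of_surj {H K : Subgroup G} (hK : K ≤ H) {X : Type v} [Group X] [Finite X] (f : K →* X)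
    (hf : Function.Surjective f) (hQ : Quat (⊤ : Subgroup X)) : Quat H := by
  classical
  haveI : Fact (Nat.Prime 2) := ⟨Nat.prime_two⟩
  obtain ⟨P, -, hP2, a, -, haP, p₁, h₁, p₂, h₂, hne⟩ := hQ
  set K₀ := P.comap f with hK₀
  let f₀ : K₀ →* P := f.subgroupComap P
  have hf₀ : Function.Surjective f₀ := fun ⟨x, hx⟩ => by
    obtain ⟨y, rfl⟩ := hf x
    exact ⟨⟨y, hx⟩, rfl⟩
  obtain ⟨Q⟩ : Nonempty (Sylow 2 K₀) := inferInstance
  have hQ₀ : (Q : Subgroup K₀).map f₀ = ⊤ := by
    rw [← Sylow.coe_mapSurjective hf₀ Q]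
    obtain ⟨m, hm⟩ := hP2.exists_card_eq
    refine Subgroup.eq_top_of_card_eq _ ?_
    rw [(Q.mapSurjective hf₀).card_eq_multiplicity, hm, Nat.prime_two.factorization_pow, Finsupp.single_eq_same]
  obtain ⟨k, hk⟩ := hf a
  -- Frattini
  have hkn : ∀ x : K, x ∈ K₀ → k * x * k⁻¹ ∈ K₀ := fun x hx => by
    show f (k * x * k⁻¹) ∈ P
    rw [map_mul, map_mul, map_inv, hk]
    exact mem_normalizer_of_mem haP hx
  let c : K₀ ≃* K₀ := MulEquiv.ofBijective
    (MonoidHom.mk' (fun x : K₀ => (⟨k * x * k⁻¹, hkn x x.2⟩ : K₀)) fun x y => Subtype.ext (by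
      show k * ((x : K) * y) * k⁻¹ = k * x * k⁻¹ * (k * y * k⁻¹); group))
    (Finite.injective_iff_bijective.mp fun x y e => Subtype.ext
      (mul_left_cancel (mul_right_cancel (congrArg Subtype.val e))))
  obtain ⟨k₀, hk₀⟩ := MulAction.exists_smul_eq K₀ (Q.mapSurjective (f := c.toMonoidHom) c.surjective) Q
  have hk₀' : ∀ x ∈ (Q : Subgroup K₀), k₀ * c x * k₀⁻¹ ∈ (Q : Subgroup K₀) := fun x hx => by
    have h1 : k₀ * c x * k₀⁻¹ ∈ ((k₀ • Q.mapSurjective (f := c.toMonoidHom) c.surjective : Sylow 2 K₀) :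
        Subgroup K₀) :=
      Subgroup.smul_mem_pointwise_smul _ (MulAut.conj k₀) _ ⟨x, hx, rfl⟩
    rwa [hk₀] at h1
  -- correct the element over `a`
  obtain ⟨q₀, hq₀, hq₀e⟩ : ∃ q ∈ (Q : Subgroup K₀), f₀ q = f₀ k₀ := hQ₀.ge (Subgroup.mem_top _)
  set a' : K := (q₀ : K)⁻¹ * (k₀ : K) * k with ha'
  have hfa : f a' = a := by
    rw [ha', map_mul, map_mul, map_inv, show f (q₀ : K) = f (k₀ : K) from congrArg Subtype.val hq₀e, inv_mul_cancel,
      one_mul, hk]
  set P' : Subgroup G := (((Q : Subgroup K₀).map K₀.subtype).map K.subtype) with hP'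
  have hP'K : ∀ x : K₀, x ∈ (Q : Subgroup K₀) → ((x : K) : G) ∈ P' := fun x hx => ⟨x, ⟨x, hx, rfl⟩, rfl⟩
  obtain ⟨r₁, hr₁, e₁⟩ := hQ₀.ge (Subgroup.mem_top (⟨p₁, h₁⟩ : P))
  obtain ⟨r₂, hr₂, e₂⟩ := hQ₀.ge (Subgroup.mem_top (⟨p₂, h₂⟩ : P))
  refine ⟨P', fun x hx => hK (Subgroup.map_subtype_le _ hx), (Q.2.map _).map _, (a' : G), hK a'.2, ?_,
    ((r₁ : K) : G), hP'K r₁ hr₁, ((r₂ : K) : G), hP'K r₂ hr₂, fun hc => ?_⟩
  · refine Subgroup.mem_normalizer_fintype ?_
    rintro _ ⟨_, ⟨x, hx, rfl⟩, rfl⟩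
    refine ⟨_, ⟨q₀⁻¹ * (k₀ * c x * k₀⁻¹) * q₀, mul_mem (mul_mem (inv_mem hq₀) (hk₀' x hx)) hq₀, rfl⟩, ?_⟩
    have hcx : ((c x : K₀) : K) = k * x * k⁻¹ := rfl
    show ((((q₀⁻¹ * (k₀ * c x * k₀⁻¹) * q₀ : K₀)) : K) : G) = (a' : G) * ((x : K) : G) * (a' : G)⁻¹
    rw [ha']
    push_cast [hcx]
    group
  · have e : ∀ (r : K₀) (p : X), f₀ r = p → f ((r : K) * a' * (r : K)⁻¹ * a'⁻¹) = p * a * p⁻¹ * a⁻¹ := by
      intro r p hp
      simp only [map_mul, map_inv, hfa, show f (r : K) = p from hp]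
    refine hne ?_
    rw [← e r₁ p₁ (congrArg Subtype.val e₁), ← e r₂ p₂ (congrArg Subtype.val e₂)]
    refine Commute.map (show Commute ((r₁ : K) * a' * (r₁ : K)⁻¹ * a'⁻¹) ((r₂ : K) * a' * (r₂ : K)⁻¹ * a'⁻¹) from
      Subtype.ext ?_) f
    simpa using hc.eq

/-- `SL₂(q)`, `q` odd, has the data. -/
theorem quat_sl {F : Type} [Field F] [Fintype F] (hodd : Odd (Fintype.card F)) :
    Quat (⊤ : Subgroup SL(2, F)) := by
  classical
  have h2 := GW.Model.two_ne_zero_of_odd hodd
  have hchar : ringChar F ≠ 2 := fun hc => by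
    haveI : CharP F 2 := ringChar.of_eq hc
    exact h2 (CharP.cast_eq_zero F 2)
  obtain ⟨a, b, hab⟩ := FiniteField.exists_root_sum_quadratic
    (f := (Polynomial.X ^ 2 : Polynomial F)) (g := (Polynomial.X ^ 2 + Polynomial.C 1 : Polynomial F))
    (Polynomial.degree_X_pow 2) (Polynomial.degree_X_pow_add_C (by norm_num) 1)
    (FiniteField.odd_card_of_char_ne_two hchar)
  simp at hab
  let X : SL(2, F) := ⟨!![0, 1; -1, 0], by simp [Matrix.det_fin_two_of]⟩
  let Y : SL(2, F) := ⟨!![a, b; b, -a], by rw [Matrix.det_fin_two_of]; linear_combination -hab⟩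
  have hXX : X * X = -1 := by
    refine Subtype.ext ?_
    show X.1 * X.1 = -1
    ext i j; fin_cases i <;> fin_cases j <;> simp [X, Matrix.mul_apply, Fin.sum_univ_two]
  have hYY : Y * Y = -1 := by
    refine Subtype.ext ?_
    show Y.1 * Y.1 = -1
    ext i j; fin_cases i <;> fin_cases j <;> simp [Y, Matrix.mul_apply, Fin.sum_univ_two] <;>
      first | ring1 | linear_combination hab
  have hYX : Y * X = -(X * Y) := by
    refine Subtype.ext ?_
    show Y.1 * X.1 = -(X.1 * Y.1)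
    ext i j; fin_cases i <;> fin_cases j <;> simp [X, Y, Matrix.mul_apply, Fin.sum_univ_two]
  set M : Matrix (Fin 2) (Fin 2) F := -(2 : F)⁻¹ • (1 + X.1 + Y.1 + X.1 * Y.1) with hM
  have hdet : M.det = 1 := by
    rw [hM, Matrix.det_smul, Fintype.card_fin, Matrix.det_fin_two]
    simp [X, Y, Matrix.mul_apply, Fin.sum_univ_two]
    field_simp
    linear_combination -2 * hab
  let W : SL(2, F) := ⟨M, hdet⟩
  have hWX : W * X = Y * W := by
    refine Subtype.ext ?_
    show M * X.1 = Y.1 * M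
    rw [hM, Matrix.smul_mul, Matrix.mul_smul]
    congr 1
    ext i j; fin_cases i <;> fin_cases j <;> simp [X, Y, Matrix.mul_apply, Fin.sum_univ_two] <;>
      first | ring1 | linear_combination hab | linear_combination -hab
  have hWY : W * Y = X * Y * W := by
    refine Subtype.ext ?_
    show M * Y.1 = X.1 * Y.1 * M
    rw [hM, Matrix.smul_mul, Matrix.mul_smul]
    congr 1
    ext i j; fin_cases i <;> fin_cases j <;> simp [X, Y, Matrix.mul_apply, Fin.sum_univ_two] <;>
      first | ring1 | linear_combination hab | linear_combination -hab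
  haveI : Fact (Nat.Prime 2) := ⟨Nat.prime_two⟩
  have hcyc : ∀ Z : SL(2, F), Z * Z = -1 → IsPGroup 2 (Subgroup.zpowers Z) := fun Z hZ => by
    have h4 : Z ^ 2 ^ 2 = 1 := by rw [pow_two 2, pow_mul, pow_two, pow_two, hZ, neg_mul_neg, one_mul]
    obtain ⟨m, -, hm⟩ := (Nat.dvd_prime_pow Nat.prime_two).mp (orderOf_dvd_of_pow_eq_one h4)
    exact IsPGroup.of_card (n := m) (by rw [Nat.card_zpowers, hm])
  have hXi : X⁻¹ = -X := inv_eq_of_mul_eq_one_right (by rw [mul_neg, hXX, neg_neg])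
  have hYi : Y⁻¹ = -Y := inv_eq_of_mul_eq_one_right (by rw [mul_neg, hYY, neg_neg])
  set P := Subgroup.zpowers X ⊔ Subgroup.zpowers Y with hP
  have hP2 : IsPGroup 2 P := by
    refine (hcyc X hXX).to_sup_of_normal_left' (hcyc Y hYY) ?_
    rw [Subgroup.zpowers_le]
    refine Subgroup.mem_normalizer_fintype fun y hy => ?_
    obtain ⟨k, rfl⟩ := Subgroup.mem_zpowers_iff.mp hy
    rw [← conj_zpow, hYX, hYi, neg_mul_neg, mul_assoc, hYY, mul_neg, mul_one, ← hXi]
    exact Subgroup.zpow_mem _ (inv_mem (Subgroup.mem_zpowers X)) k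
  have hXP : X ∈ P := Subgroup.mem_sup_left (Subgroup.mem_zpowers X)
  have hYP : Y ∈ P := Subgroup.mem_sup_right (Subgroup.mem_zpowers Y)
  have eX : W * X * W⁻¹ = Y := mul_inv_eq_iff_eq_mul.mpr hWX
  have eY : W * Y * W⁻¹ = X * Y := mul_inv_eq_iff_eq_mul.mpr hWY
  refine ⟨P, le_top, hP2, W, Subgroup.mem_top _, mem_normalizer_of_cj_eq ?_, X, hXP, Y, hYP, fun hc => ?_⟩
  · rw [hP, cj_sup, cj, cj, MonoidHom.map_zpowers, MonoidHom.map_zpowers]
    refine sup_le (Subgroup.zpowers_le.mpr ?_) (Subgroup.zpowers_le.mpr ?_)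
    · show W * X * W⁻¹ ∈ P
      rw [eX]; exact hYP
    · show W * Y * W⁻¹ ∈ P
      rw [eY]; exact mul_mem hXP hYP
  · have e1 : X * W * X⁻¹ * W⁻¹ = -(X * Y) := by
      rw [show X * W * X⁻¹ * W⁻¹ = X * (W * X * W⁻¹)⁻¹ by group, eX, hYi, mul_neg]
    have e2 : Y * W * Y⁻¹ * W⁻¹ = -X := by
      rw [show Y * W * Y⁻¹ * W⁻¹ = Y * (W * Y * W⁻¹)⁻¹ by group, eY, mul_inv_rev, ← mul_assoc, mul_inv_cancel,
        one_mul, hXi]
    rw [e1, e2] at hc
    have h3 : X * Y * X = X * (X * Y) := by simpa using hc.eq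
    rw [mul_assoc] at h3
    have h4 : Y * X = X * Y := mul_left_cancel h3
    rw [hYX] at h4
    have h5 : (X * Y).1 = 0 := by
      have h6 : -(X * Y).1 = (X * Y).1 := congrArg Subtype.val h4
      have h7 : (2 : F) • (X * Y).1 = 0 := by rw [two_smul]; nth_rw 1 [← h6]; exact neg_add_cancel _
      exact (smul_eq_zero.mp h7).resolve_left h2
    have h8 := congrArg Matrix.det h5
    rw [(X * Y).2, Matrix.det_zero] at h8
    exact one_ne_zero h8

/-- **No section `SL₂(p)` gives stability.** -/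
theorem stab_of_no_section {p : ℕ} [Fact p.Prime] (hp2 : p ≠ 2) {M : Type u} [Group M] [Finite M]
    (hno : ∀ (K : Subgroup M) (f : K →* SL(2, ZMod p)), ¬ Function.Surjective f) : Stab p M := by
  classical
  intro V _ hV _ a _ hquad
  obtain ⟨φ, hφ⟩ : ∃ φ : M →* MulAut ↥V, ∀ (m : M) (v : ↥V), ((φ m v : ↥V) : M) = m * v * m⁻¹ :=
    ⟨MulAut.conjNormal, fun m v => MulAut.conjNormal_apply m v⟩
  have hker : φ.ker = Subgroup.centralizer (V : Set M) := by
    ext m
    rw [MonoidHom.mem_ker, Subgroup.mem_centralizer_iff]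
    constructor
    · intro e v hv
      have h1 := congrArg Subtype.val (MulEquiv.congr_fun e ⟨v, hv⟩)
      rw [hφ] at h1
      exact (mul_inv_eq_iff_eq_mul.mp h1).symm
    · intro e
      exact MulEquiv.ext fun v => Subtype.ext (by rw [hφ, ← e v v.2, mul_inv_cancel_right]; rfl)
  have hquada : IsQuad (φ a) := fun v => Subtype.ext (by
    simp only [hφ, Subgroup.coe_mul, Subgroup.coe_inv]
    have h2 := Subgroup.commutator_mem_commutator
      (Subgroup.commutator_mem_commutator v.2 (Subgroup.mem_zpowers a) :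
        ⁅(v : M), a⁆ ∈ ⁅V, Subgroup.zpowers a⁆) (Subgroup.mem_zpowers a)
    rw [hquad, Subgroup.mem_bot, commutatorElement_eq_one_iff_mul_comm] at h2
    have h3 : Commute a ⁅(v : M), a⁆⁻¹ := (show Commute ⁅(v : M), a⁆ a from h2).symm.inv_right
    rw [commutatorElement_inv, commutatorElement_def] at h3
    rw [h3.eq, mul_inv_cancel_right])
  haveI : Finite (MulAut ↥V) := Finite.of_injective (fun e : MulAut ↥V => (e : ↥V → ↥V)) DFunLike.coe_injective
  let e : M ⧸ Subgroup.centralizer (V : Set M) ≃* φ.range :=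
    (QuotientGroup.quotientMulEquivOfEq hker.symm).trans (QuotientGroup.quotientKerEquivRange φ)
  have hin := mem_pCore_of_quad hp2 hV φ.range (fun K f hf => hno (K.comap φ.rangeRestrict)
    (f.comp (φ.rangeRestrict.subgroupComap K)) (hf.comp fun ⟨x, hx⟩ => by
      obtain ⟨y, rfl⟩ := φ.rangeRestrict_surjective x
      exact ⟨⟨y, hx⟩, rfl⟩)) ⟨a, rfl⟩ hquada
  rw [← CfsgLib.pCore_map_equiv p e] at hin
  obtain ⟨y, hy, hye⟩ := hin
  rwa [show y = QuotientGroup.mk a from e.injective (hye.trans (Subtype.ext rfl))] at hy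

variable {d : Frame G} {M H : Subgroup G} {p : ℕ} {u g : G}

/-- A model with dihedral Sylow subgroups has no moved radical. -/
theorem Inv.not_noMoved {X : Type u} [Group X] [Finite X] (h : CfsgLib.BG.NoMoved X) {w : X} {R : Subgroup X}
    (h1 : Inv p w R) : False := by
  haveI := Fact.mk h1.prime
  obtain ⟨n, hn⟩ := IsPGroup.iff_card.mp h1.pgroup
  have hodd : Odd (Nat.card R) := hn ▸ (h1.prime.odd_of_ne_two h1.two).pow
  obtain ⟨r, hr, hne⟩ := h1.moved
  refine hne (Subgroup.mem_centralizer_singleton_iff.mp (h w R h1.word hodd (fun c hc => ?_) hr))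
  have hc' := Subgroup.mem_centralizer_singleton_iff.mp hc
  refine Subgroup.mem_normalizer_iff.mpr fun r => ⟨h1.norm c hc' r, fun hr => ?_⟩
  have := h1.norm c⁻¹ (by rw [inv_mul_eq_iff_eq_mul, ← mul_assoc, hc', mul_inv_cancel_right]) _ hr
  simpa [mul_assoc] using this

/-- **The case `C < M` is impossible.** -/
theorem LCtx.impossible (K : LCtx d M p) (hOD : ¬ ∀ x ∈ d.O, ∀ y ∈ d.D, x * y = y * x)
    (hprop : ∀ H : Subgroup G, H ≠ ⊤ → Subgroup.normalizer (d.U : Set G) ≤ H → ¬ ∀ x ∈ d.D, ∃ o ∈ d.O, x * o ∈ H)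
    (hCM : Central p M) : False := by
  classical
  haveI := Fact.mk K.prime
  haveI : Fact (Nat.Prime 2) := ⟨Nat.prime_two⟩
  have hp2 := K.ne_two
  have h := K.hyp
  have hd := K.spec
  haveI := h.simple
  obtain ⟨u, g, T, huU, hUall⟩ := h.exists_tri hd
  obtain ⟨B, hBne, hBM, hBp, hNB, f, hf, hfB, hfz⟩ := K.exists_invariant T hUall huU hOD
  have hBodd := K.odd_of_pgroup hBp
  obtain ⟨H, hHco, hBH⟩ :=
    (eq_top_or_exists_le_coatom (Subgroup.normalizer (B : Set G))).resolve_left (h.normalizer_ne_top hBne hBodd)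
  have hHtop := hHco.1
  have hNU : Subgroup.normalizer (d.U : Set G) ≤ H := hNB.trans hBH
  have hUle : d.U ≤ H := Subgroup.le_normalizer.trans hNU
  have hzH : d.z ∈ H := hUle hd.zU
  have huH : u ∈ H := hUle huU
  have hgH : g ∈ H := hNU (Subgroup.mem_normalizer_fintype fun x hx => by
    rcases hUall x hx with rfl | rfl | rfl | rfl
    · simp
    · rw [T.z_to]; exact huU
    · rw [T.u_to]; exact mul_mem hd.zU huU
    · rw [T.zu_to]; exact hd.zU)
  have hfH : f ∈ H := hBH hfB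
  have hzF : d.z ∈ Subgroup.normalizer (OO p M : Set G) := mem_normalizer_OO K.z_mem
  have hFodd := K.odd_of_pgroup (OO_isPGroup p M)
  -- a normal subgroup of even order contains `z`
  have hmeet : ∀ N ≤ H, (∀ y ∈ H, ∀ x ∈ N, y * x * y⁻¹ ∈ N) → ¬ Odd (Nat.card N) → d.z ∈ N := by
    intro N hN hn hev
    rcases h.meets_normal T.zord T.ord T.comm.symm T.ne hzH huH hN hn hev with e | e | e
    · exact e
    · have := hn _ (inv_mem hgH) _ e
      rwa [inv_inv, T.back_u] at this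
    · have := hn _ hgH _ e
      rwa [T.zu_to] at this
  have hnq : ¬ Quat H := fun hQ =>
    no_quat h hd K.lt hOD hUall huU T hNU hgH (hprop H hHtop hNU) hQ
  -- `O₂(H) = 1`
  have hO2 : OO 2 H = ⊥ := by
    by_contra hne
    exact hfz (not_mem_two' (hmeet _ OO_le (fun y hy x hx => conj_OO hy hx) (two_group_even (OO_isPGroup 2 H) hne))
      hFodd hzF hf hfH)
  -- `O_s(H) = 1` for the other primes
  have hOs : ∀ s : ℕ, s.Prime → s ≠ p → OO s H = ⊥ := by
    intro s hs hsp
    by_cases hs2 : s = 2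
    · subst hs2; exact hO2
    haveI := Fact.mk hs
    set E := OO s H with hE
    have hBinH : B ≤ H := Subgroup.le_normalizer.trans hBH
    have hBnY : B ≤ Subgroup.normalizer ((E ⊓ M : Subgroup G) : Set G) := fun b hb =>
      Subgroup.mem_normalizer_fintype fun y hy =>
        ⟨conj_OO (hBinH hb) hy.1, M.mul_mem (M.mul_mem (hBM hb) hy.2) (M.inv_mem (hBM hb))⟩
    have hdisj : ∀ x : G, x ∈ OO p M → x ∈ E → x = 1 := by
      intro x hx hx'
      obtain ⟨i, hi⟩ := OO_pow_order K.prime hx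
      obtain ⟨j, hj⟩ := OO_pow_order hs hx'
      refine orderOf_eq_one_iff.mp (Nat.eq_one_of_dvd_coprimes
        (Nat.coprime_pow_primes i j K.prime hs (Ne.symm hsp)) (dvd_of_eq hi) (dvd_of_eq hj))
    have hY : ∀ y ∈ E, y ∈ M → y = 1 := by
      intro y hy hyM
      have hcent := GAxB.centralizes hp2 (F := OO p M) (B := B) (Y := E ⊓ M) (OO_isPGroup p M) hBp ?_
        (fun b hb => mem_normalizer_OO (hBM hb)) (fun y hy => mem_normalizer_OO hy.2) hBnY ?_
      · exact hdisj y (K.self_cent hyM fun x hx => hcent x hx y ⟨hy, hyM⟩) hy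
      · obtain ⟨k, hk⟩ := ((OO_isPGroup s H).to_le (inf_le_left : E ⊓ M ≤ E)).exists_card_eq
        rw [hk]
        exact Nat.Coprime.pow_left k ((Nat.coprime_primes hs K.prime).2 hsp)
      · intro x hx hxB w hw
        have hxH : x ∈ H := hBH (Subgroup.centralizer_le_normalizer _
          (Subgroup.mem_centralizer_iff.2 fun b hb => (hxB b hb)))
        have h1 : x * w * x⁻¹ * w⁻¹ = 1 := by
          refine hdisj _ ?_ (mul_mem (conj_OO hxH hw.1) (inv_mem hw.1))
          rw [show x * w * x⁻¹ * w⁻¹ = x * (w * x⁻¹ * w⁻¹) by group]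
          exact mul_mem hx (conj_OO hw.2 (inv_mem hx))
        exact (mul_inv_eq_iff_eq_mul.1 (mul_inv_eq_one.1 h1)).symm
    have hfree : ∀ v : G, v = d.z ∨ v = u ∨ v = d.z * u → ∀ y ∈ E, v * y = y * v → y = 1 := by
      have hconj : ∀ c ∈ H, ∀ v : G, c * v * c⁻¹ = d.z → ∀ y ∈ E, v * y = y * v → y = 1 := by
        intro c hc v hv y hy hvy
        have h1 : c * y * c⁻¹ ∈ d.C := mem_cent.2 (by
          have := (Commute.conj_iff c).2 (show Commute y v from hvy.symm)
          rw [hv] at this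
          exact this.eq)
        have h2 := hY _ (conj_OO hc hy) (K.C_le h1)
        exact conj_eq_one_iff.1 h2
      intro v hv
      rcases hv with rfl | rfl | rfl
      · exact hconj 1 (one_mem _) _ (by group)
      · exact hconj g⁻¹ (inv_mem hgH) _ (by rw [inv_inv, T.back_u])
      · exact hconj g hgH _ T.zu_to
    have hEodd : Odd (Nat.card E) := OO_odd hs hs2 H
    refine eq_bot_iff.2 fun y hy => Subgroup.mem_bot.2 ?_
    have h1 := inverts_of_free hEodd T.zord (mem_normalizer_OO hzH) (hfree _ (Or.inl rfl)) y hy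
    have h2 := inverts_of_free hEodd T.ord (mem_normalizer_OO huH) (hfree _ (Or.inr (Or.inl rfl))) y hy
    refine hfree _ (Or.inr (Or.inr rfl)) y hy (mul_inv_eq_iff_eq_mul.1 ?_)
    calc d.z * u * y * (d.z * u)⁻¹ = d.z * (u * y * u⁻¹) * d.z⁻¹ := by group
      _ = (d.z * y * d.z⁻¹)⁻¹ := by rw [h2]; group
      _ = y := by rw [h1, inv_inv]
  -- the layer
  have hEE : EE H = ⊥ := by
    by_contra hE
    rcases h.exists_comp hHtop hE with ⟨L, hL⟩ | ⟨w, -, hw, hHw⟩
    swap
    · have hc : ∀ x ∈ H, w * x = x * w := fun x hx => (mem_cent.1 (hHw hx)).symm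
      have hgw : g * w * g⁻¹ = w := conj_eq_self (hc g hgH).symm
      rcases h.invol_cases T.zord T.ord T.comm.symm T.ne hw (hc _ hzH) (hc _ huH) with rfl | rfl | rfl
      · exact T.ne (T.z_to.symm.trans hgw)
      · exact T.zu_ne (by rw [T.u_to] at hgw; exact absurd (mul_eq_right.1 hgw) (ne_one_of_invol T.zord))
      · exact T.zu_ne (T.zu_to.symm.trans hgw).symm
    haveI := hL.perfect
    have hzL : d.z ∈ L := hmeet L hL.le hL.norm (not_odd_of_perfect hL.ne)
    have hR := hL.rad_of_moved hzL T.zord K.prime hp2 (OO_isPGroup p M)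
      (fun c hc r hr => conj_OO (K.C_le (mem_cent.2 hc)) hr) hf hfH hfz
    rcases hL.type with ⟨⟨S, n, hn, ⟨e⟩⟩, -⟩ | ⟨hq, -⟩
    · have hs : IsSimpleGroup (L ⧸ Subgroup.center L) := hL.quasi.2
      obtain ⟨eS⟩ := CfsgLib.GWConseq.sylow_quotient_odd _ hL.center_odd S
      refine (hR.inv hL.center_odd).not_noMoved (CfsgLib.BG.noMoved _ ⟨hs, fun hc => ?_, ⟨_, n, hn, ⟨eS.symm.trans e⟩⟩⟩)
      haveI := hs
      haveI : Group.IsPerfect (L ⧸ Subgroup.center L) :=
        Group.IsPerfect.ofSurjective (f := QuotientGroup.mk' (Subgroup.center L)) (QuotientGroup.mk'_surjective _)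
      have e0 : commutator (L ⧸ Subgroup.center L) = ⊥ := by
        rw [commutator_def, Subgroup.commutator_eq_bot_iff_le_centralizer]
        exact fun x _ => Subgroup.mem_centralizer_iff.2 fun y _ => hc.is_comm.comm y x
      rw [Group.IsPerfect.commutator_eq_top] at e0
      exact top_ne_bot e0
    · have hlt : Nat.card (L ⧸ Subgroup.center L) < Nat.card G :=
        lt_of_le_of_lt (Nat.le_of_dvd Nat.card_pos (Subgroup.card_quotient_dvd_card _))
          (card_lt_of_ne_top (fun e => hHtop (top_le_iff.1 (e ▸ hL.le))))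
      obtain ⟨d', hd'⟩ := (h.smaller hL.quasi.2 hq hlt).exists_frame
      obtain ⟨e⟩ := hd'.sl
      have h1 : Quat (⊤ : Subgroup (↥(Subgroup.centralizer ({d'.z} : Set (L ⧸ Subgroup.center L))) ⧸
          oddCore ↥(Subgroup.centralizer ({d'.z} : Set (L ⧸ Subgroup.center L))))) :=
        quat_of_surj le_top e.toMonoidHom e.surjective (quat_sl hd'.odd_card)
      have h2 : Quat (⊤ : Subgroup ↥(Subgroup.centralizer ({d'.z} : Set (L ⧸ Subgroup.center L)))) :=
        quat_of_surj (K := ⊤) le_rfl ((QuotientGroup.mk' _).comp Subgroup.topEquiv.toMonoidHom)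
          (fun x => by
            obtain ⟨y, rfl⟩ := QuotientGroup.mk'_surjective _ x
            exact ⟨Subgroup.topEquiv.symm y, by simp⟩) h1
      have h3 : Quat (⊤ : Subgroup (L ⧸ Subgroup.center L)) :=
        quat_of_surj le_top (MonoidHom.id _) Function.surjective_id h2
      exact hnq (quat_of_surj hL.le (QuotientGroup.mk' _) (QuotientGroup.mk'_surjective _) h3)
  -- `F*(H)` is a `p`-group
  have hFF : FF H ≤ OO p H := by
    rw [FF, CfsgLib.fittingSubgroup_eq_iSup_pCore, Subgroup.map_iSup]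
    refine iSup_le fun s => ?_
    by_cases hsp : (s : ℕ) = p
    · subst hsp; exact le_rfl
    · exact (hOs s s.2 hsp).le.trans bot_le
  have hFp : IsPGroup p (FF H) := (OO_isPGroup p H).to_le hFF
  have hcentH := self_cent_pCore hEE hFp
  have hpb : pCore p H ≠ ⊥ := fun e => by
    have h1 := hcentH (x := (⟨d.z, hzH⟩ : H)) (by
      rw [e, Subgroup.mem_centralizer_iff]
      rintro y hy
      rw [SetLike.mem_coe, Subgroup.mem_bot] at hy
      rw [hy, one_mul, mul_one])
    rw [e, Subgroup.mem_bot] at h1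
    exact ne_one_of_invol T.zord (congrArg Subtype.val h1)
  have hst : Stab p ↥H := stab_of_no_section hp2 fun K₁ f₁ hf₁ => hnq (by
    refine quat_of_surj (K := K₁.map H.subtype) (Subgroup.map_subtype_le _)
      (f₁.comp (K₁.equivMapOfInjective H.subtype H.subtype_injective).symm.toMonoidHom)
      (hf₁.comp (K₁.equivMapOfInjective H.subtype H.subtype_injective).symm.surjective) (quat_sl ?_)
    rw [ZMod.card]
    exact K.prime.odd_of_ne_two hp2)
  obtain ⟨P', hP'H, hP'e⟩ := central_of_coatom hHco hpb hcentH hst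
  obtain ⟨P, hPM, hPe⟩ := hCM
  -- `H` is conjugate to `M`
  obtain ⟨c, hc⟩ := MulAction.exists_smul_eq G P' P
  have hPc : (P : Subgroup G) = (P' : Subgroup G).map (MulAut.conj c).toMonoidHom := by
    rw [← hc, Sylow.coe_subgroup_smul]; rfl
  have hMc : M = cj c H := by
    rw [hPe, hP'e, hPc, center_up_map _ (MulAut.conj c).injective, cj]
    exact (Subgroup.map_equiv_normalizer_eq _ (MulAut.conj c)).symm
  -- a fused four group in `M`
  set V := cj c (four d.z u) with hV
  have hVM : V ≤ M := hMc ▸ cj_mono (four_le hzH huH)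
  have hSM : (d.S : Subgroup G) ≤ M := fun s hs => K.C_le (mem_cent.2 (hd.zc s hs))
  have hV2 : IsPGroup 2 (V.subgroupOf M) :=
    ((CfsgLib.DihedralFusion.isPGroup_klein (isKleinFour_four T.zord T.ord T.comm.symm T.ne)).map _).comap_of_injective
      _ M.subtype_injective
  obtain ⟨m, hm⟩ := CfsgLib.DihedralFusion.exists_conj_le (S := d.S.subtype hSM) hV2
  set n := (m : G) * c with hn
  have hnS : ∀ x ∈ four d.z u, n * x * n⁻¹ ∈ (d.S : Subgroup G) := by
    intro x hx
    have hxV : c * x * c⁻¹ ∈ V := conj_mem_cj hx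
    have := hm ⟨⟨c * x * c⁻¹, hVM hxV⟩, Subgroup.mem_subgroupOf.2 hxV, rfl⟩
    rw [Sylow.coe_subtype, Subgroup.mem_subgroupOf] at this
    rw [hn, show (m : G) * c * x * ((m : G) * c)⁻¹ = (m : G) * (c * x * c⁻¹) * (m : G)⁻¹ by group]
    exact this
  have hnH : ∀ x ∈ H, n * x * n⁻¹ ∈ M := fun x hx => by
    rw [hn, show (m : G) * c * x * ((m : G) * c)⁻¹ = (m : G) * (c * x * c⁻¹) * (m : G)⁻¹ by group]
    exact mul_mem (mul_mem m.2 (hMc ▸ conj_mem_cj hx)) (inv_mem m.2)
  -- `z` is moved to another involution of this four group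
  have hcomm : ∀ x ∈ four d.z u, Commute (n * x * n⁻¹) d.z := fun x hx => hd.zc _ (hnS x hx)
  have hzcase := h.invol_cases ((orderOf_cj n _).trans T.zord) ((orderOf_cj n _).trans T.ord)
    ((Commute.conj_iff n).2 T.comm.symm).eq (fun e => T.ne (mul_left_cancel (mul_right_cancel e))) T.zord
    (hcomm _ (left_mem_four _ _)).symm.eq (hcomm _ (right_mem_four _ _)).symm.eq
  have key : ∀ x y : G, x ∈ four d.z u → y ∈ four d.z u → y ≠ x → g * x * g⁻¹ = y → n * x * n⁻¹ = d.z → False := by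
    intro x y hx hy hxy hg he
    have h1 : n * g * n⁻¹ * d.z * (n * g * n⁻¹)⁻¹ = n * y * n⁻¹ := by
      rw [← hg, ← he]; group
    have h2 := K.iso M K.bad.coatom.1 K.C_le (n * g * n⁻¹) (hnH g hgH) (by rw [h1]; exact hcomm y hy)
    rw [h1, ← he] at h2
    exact hxy (mul_left_cancel (mul_right_cancel h2))
  have hzu := mul_mem (left_mem_four d.z u) (right_mem_four d.z u)
  rcases hzcase with e | e | e
  · exact key _ _ (left_mem_four _ _) (right_mem_four _ _) T.ne T.z_to e.symm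
  · refine key _ _ (right_mem_four _ _) hzu ?_ T.u_to e.symm
    exact fun e' => ne_one_of_invol T.zord (mul_eq_right.1 e')
  · refine key _ _ hzu (left_mem_four _ _) (Ne.symm T.zu_ne) T.zu_to ?_
    exact (e.trans (by group)).symm

/-- **P4.** -/
theorem not_below (h : Hyp G) {d : Frame G} (hd : d.Spec) (hq : 3 < d.q)
    (hOD : ¬ ∀ x ∈ d.O, ∀ y ∈ d.D, x * y = y * x) (hiso : Iso d.z)
    (hprop : ∀ H : Subgroup G, H ≠ ⊤ → Subgroup.normalizer (d.U : Set G) ≤ H → ¬ ∀ x ∈ d.D, ∃ o ∈ d.O, x * o ∈ H) :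
    IsCoatom d.C := by
  classical
  haveI := h.simple
  by_contra hC
  have hCtop : d.C ≠ ⊤ := by
    intro e
    have hzc : d.z ∈ Subgroup.center G := Subgroup.mem_center_iff.2 fun x =>
      mem_cent.1 (show x ∈ d.C from e.symm ▸ Subgroup.mem_top x)
    rcases (inferInstance : (Subgroup.center G).Normal).eq_bot_or_eq_top with e' | e'
    · rw [e', Subgroup.mem_bot] at hzc
      exact ne_one_of_invol hd.zord hzc
    · exact h.noncomm ⟨⟨fun a b => (Subgroup.mem_center_iff.1 (e'.ge (Subgroup.mem_top a)) b).symm⟩⟩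
  -- the maximal subgroups over the centraliser
  have hbad : ∀ N : Subgroup G, IsCoatom N → d.C < N →
      Bad d.z N ∧ ∃ r : ℕ, r.Prime ∧ IsPGroup r (FF N) ∧ Central r N := by
    intro N hN hlt
    have hB : Bad d.z N := by
      refine bad_of_iso h hd.zord hiso hN hlt.le (R := (oddCore ↥N).map N.subtype) ?_ ?_
        (Subgroup.map_subtype_le _) fun hle => hlt.not_ge fun x hx => ?_
      · rw [Subgroup.card_map_of_injective N.subtype_injective]
        exact CfsgLib.odd_card_oddCore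
      · intro x hx
        refine Subgroup.mem_normalizer_fintype ?_
        rintro _ ⟨y, hy, rfl⟩
        exact ⟨⟨x, hlt.le hx⟩ * y * ⟨x, hlt.le hx⟩⁻¹, (inferInstance : (oddCore ↥N).Normal).conj_mem y hy _, rfl⟩
      · obtain ⟨k, hk, c, hc, e⟩ := exists_decomp hd hlt.le (hiso N hN.1 hlt.le) ⟨x, hx⟩
        have e' : x = (k : G) * c := congrArg Subtype.val e
        rw [e']
        exact mul_mem (hle ⟨k, hk, rfl⟩) hc
    obtain ⟨r, hr, hne⟩ : ∃ r, r.Prime ∧ ∀ s : ℕ, s.Prime → s ≠ r → OO s N = ⊥ := by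
      by_contra hno
      push Not at hno
      refine multi_false h hiso hB fun r => ?_
      by_cases hr : r.Prime
      · obtain ⟨s, hs, hsr, hne⟩ := hno r hr
        exact ⟨s, hs, hsr, hne⟩
      · obtain ⟨s, hs, x, hx, hmv⟩ := hB.exists_moved
        refine ⟨s, hs, fun e => hr (e ▸ hs), fun e => ?_⟩
        rw [e, Subgroup.mem_bot] at hx
        exact hmv (by rw [hx, mul_one, one_mul])
    have hF : IsPGroup r (FF N) := by
      refine (OO_isPGroup r N).to_le ?_
      rw [FF, CfsgLib.fittingSubgroup_eq_iSup_pCore, Subgroup.map_iSup]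
      refine iSup_le fun s => ?_
      by_cases hsr : (s : ℕ) = r
      · subst hsr; exact le_rfl
      · exact (hne s s.2 hsr).le.trans bot_le
    haveI := Fact.mk hr
    exact ⟨hB, r, hr, hF, central_of_bad h hd hq hiso hOD hB hF⟩
  obtain ⟨M, hM, hCM⟩ := (eq_top_or_exists_le_coatom d.C).resolve_left hCtop
  have hlt : d.C < M := lt_of_le_of_ne hCM fun e => hC (e ▸ hM)
  obtain ⟨hB, p, hp, hF, hcen⟩ := hbad M hM hlt
  refine LCtx.impossible (M := M) (p := p) ⟨h, hd, hq, hp, hiso, hB, hF, fun N hN hCN => ?_⟩ hOD hprop hcen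
  obtain ⟨M₂, hM₂, hNM₂⟩ := (eq_top_or_exists_le_coatom N).resolve_left hN
  have hlt₂ : d.C < M₂ := lt_of_le_of_ne (hCN.trans hNM₂) fun e => hC (e ▸ hM₂)
  obtain ⟨hB₂, r, hr, hF₂, hcen₂⟩ := hbad M₂ hM₂ hlt₂
  exact hNM₂.trans (unique_over h hd hq hiso hB hB₂ hp hr hF hF₂ hcen hcen₂).le

end CfsgLib.RankTwoModel
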