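import Cfsg.Agent.Lib.RankTwoModel.Below.Main
import Cfsg.Agent.Lib.RankTwoModel.CMax.Main
import Cfsg.Agent.Lib.RankTwoModel.Prop

/-!
**L5: `[O, D] = 1`.** P1 (`prop_no_cover`, `iso_overgroup`), P4 (`not_below`) and P5 (`c_max_false`) combined.
-/

set_option autoImplicit false

namespace CfsgLib.RankTwoModel

open Cfsg

universe u

/-- `D` centralises `O`. -/
theorem Frame.Spec.core_commute {G : Type u} [Group G] [Finite G] {d : Frame G} (hd : d.Spec) (h : Hyp G)
    (hq : 3 < d.q) : ∀ x ∈ d.O, ∀ y ∈ d.D, x * y = y * x := by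
  by_contra hOD
  exact c_max_false h d hd hq
    (not_below h hd hq hOD (fun N hN hC => hd.iso_overgroup h hq hOD hN hC)
      (fun H hH hN => hd.prop_no_cover h hq hOD hH hN)) hOD

end CfsgLib.RankTwoModel
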